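import Cfsg.Agent.Lib.StrongClosedPair.Main

/-!
# The direct decomposition when the two subgroups generate the Sylow subgroup
-/

set_option autoImplicit false
set_option linter.style.haveILetI false
set_option linter.unusedSectionVars false

open scoped Pointwise commutatorElement

namespace CfsgLib.StrongClosedPair

open Cfsg Subgroup

universe u

variable {G : Type u} [Group G] [Finite G] {P : Sylow 2 G} {S₁ S₂ : Subgroup G}

/-- `P ∩ N` is a Sylow 2-subgroup of the normal subgroup `N`. -/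
theorem exists_sylow_inf (P : Sylow 2 G) (N : Subgroup G) [N.Normal] :
    ∃ Q : Sylow 2 ↥N, (Q : Subgroup ↥N) = (P : Subgroup G).subgroupOf N := by
  obtain ⟨Q, hQ⟩ := (P.2.comap_subtype (K := N)).exists_le_sylow
  obtain ⟨k, hk⟩ := exists_conj_le P (Q.2.map N.subtype)
  refine ⟨Q, (Subgroup.eq_of_le_of_card_ge hQ ?_).symm⟩
  have hle : ((Q : Subgroup ↥N).map N.subtype).map (MulAut.conj k⁻¹).toMonoidHom ≤
      ((P : Subgroup G).subgroupOf N).map N.subtype := by
    rintro _ ⟨q, hq, rfl⟩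
    rw [MulEquiv.coe_toMonoidHom, MulAut.conj_apply, inv_inv]
    have hqN : k⁻¹ * q * k ∈ N := by
      have := Normal.conj_mem (inferInstance : N.Normal) q (map_subtype_le _ hq) k⁻¹
      rwa [inv_inv] at this
    exact ⟨⟨_, hqN⟩, mem_subgroupOf.2 (hk q hq), rfl⟩
  have h := Nat.le_of_dvd Nat.card_pos (Subgroup.card_dvd_of_le hle)
  rwa [Subgroup.card_map_of_injective (MulAut.conj k⁻¹).injective,
    Subgroup.card_map_of_injective N.subtype_injective,
    Subgroup.card_map_of_injective N.subtype_injective] at h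

/-- If `P = S₁ S₂` and the normal closures commute, then `S₁` is the Sylow subgroup of its normal
closure. -/
theorem inf_normalClosure_eq (h : Pair P S₁ S₂) (hP : S₁ ⊔ S₂ = (P : Subgroup G))
    (hcomm : ⁅normalClosure (S₁ : Set G), normalClosure (S₂ : Set G)⁆ = ⊥) :
    (P : Subgroup G) ⊓ normalClosure (S₁ : Set G) = S₁ := by
  set N := normalClosure (S₁ : Set G) with hN
  have hS1N : S₁ ≤ N := le_normalClosure
  have hcen : ∀ y ∈ S₂, ∀ n ∈ N, n * y = y * n := fun y hy n hn =>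
    commutatorElement_eq_one_iff_mul_comm.1 (mem_bot.1 (hcomm ▸
      commutator_mem_commutator hn (subset_normalClosure hy : y ∈ normalClosure (S₂ : Set G))))
  have hsplit : ∀ x ∈ (P : Subgroup G), ∃ s ∈ S₁, ∃ t ∈ S₂, s * t = x := by
    intro x hx
    rw [← hP, ← SetLike.mem_coe, coe_mul_of_left_le_normalizer_right S₁ S₂ (fun a ha =>
      centralizer_le_normalizer _ (mem_centralizer_iff.2 fun b hb => (h.comm a ha b hb).symm))] at hx
    exact Set.mem_mul.1 hx
  obtain ⟨Q, hQ⟩ := exists_sylow_inf P N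
  have hfoc : Subgroup.focalSubgroup (Q : Subgroup ↥N) ≤ S₁.subgroupOf N := by
    rw [focalSubgroup_def, closure_le]
    rintro _ ⟨hmem, x, hx, u, rfl⟩
    rw [hQ, mem_subgroupOf] at hmem hx
    obtain ⟨s, hs, t, ht, hst⟩ := hsplit _ hx
    have hxs : ((⁅x, u⁆ : ↥N) : G) = s * ((u : G) * s⁻¹ * (u : G)⁻¹) := by
      show (x : G) * u * (x : G)⁻¹ * (u : G)⁻¹ = _
      rw [← hst]
      have hut : (u : G) * t⁻¹ = t⁻¹ * u := hcen _ (inv_mem ht) u u.2
      calc s * t * u * (s * t)⁻¹ * (u : G)⁻¹ = s * (t * ((u : G) * t⁻¹)) * s⁻¹ * (u : G)⁻¹ := by group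
        _ = s * ((u : G) * s⁻¹ * (u : G)⁻¹) := by rw [hut]; group
    have hus : (u : G) * s⁻¹ * (u : G)⁻¹ ∈ S₁ := by
      refine h.sc₁.2 _ (inv_mem hs) u ?_
      have h2 := mul_mem (inv_mem (h.sc₁.1 hs)) hmem
      rwa [hxs, inv_mul_cancel_left] at h2
    rw [SetLike.mem_coe, mem_subgroupOf, hxs]
    exact mul_mem hs hus
  -- `N` is generated by its derived subgroup and `S₁`
  set K := commutator ↥N ⊔ S₁.subgroupOf N with hK
  haveI : K.Normal := ⟨fun x hx g => by
    rw [show g * x * g⁻¹ = ⁅g, x⁆ * x by rw [commutatorElement_def]; group]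
    exact mul_mem (mem_sup_left (commutator_mem_commutator (mem_top g) (mem_top x))) hx⟩
  have hKtop : N ≤ K.map N.subtype := by
    have hsub : Group.conjugatesOfSet (S₁ : Set G) ⊆ (K.map N.subtype : Subgroup G) := by
      intro z hz
      obtain ⟨x, hx, hxz⟩ := Group.mem_conjugatesOfSet_iff.1 hz
      obtain ⟨g, rfl⟩ := isConj_iff.1 hxz
      obtain ⟨n, hn, s, hs, e⟩ := exists_normal_conj h.sc₁ N hx (hS1N hx) g
      rw [e]
      exact ⟨⟨n, hn⟩ * ⟨s, (mem_inf.1 hs).2⟩ * ⟨n, hn⟩⁻¹, Normal.conj_mem inferInstance _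
        (mem_sup_right (mem_subgroupOf.2 (mem_inf.1 hs).1)) _, rfl⟩
    exact (closure_le _).2 hsub
  refine le_antisymm ?_ (le_inf h.sc₁.1 hS1N)
  intro x hx
  obtain ⟨hxP, hxN⟩ := mem_inf.1 hx
  obtain ⟨k, hk, hkx⟩ := hKtop hxN
  rw [SetLike.mem_coe, hK, mem_sup_of_normal_left] at hk
  obtain ⟨c, hc, s, hs, rfl⟩ := hk
  rw [mem_subgroupOf] at hs
  have hcQ : c ∈ (Q : Subgroup ↥N) := by
    rw [hQ, mem_subgroupOf]
    have : (c : G) = x * (s : G)⁻¹ := by rw [← hkx]; simp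
    rw [this]
    exact mul_mem hxP (inv_mem (h.sc₁.1 hs))
  have hcS : (c : G) ∈ S₁ := hfoc (by
    rw [← commutator_inf_eq_focalSubgroup]
    exact mem_inf.2 ⟨hc, hcQ⟩)
  rw [← hkx]
  exact mul_mem hcS hs

/-- The decomposition of `G`. -/
theorem split (h : Pair P S₁ S₂) (hP : S₁ ⊔ S₂ = (P : Subgroup G)) (hO : oddCore G = ⊥)
    (hO' : ∀ N : Subgroup G, N.Normal → Odd N.index → N = ⊤) :
    IsInternalDirectProduct (normalClosure (S₁ : Set G)) (normalClosure (S₂ : Set G)) ⊤ ∧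
      Odd (S₁.relIndex (normalClosure (S₁ : Set G))) ∧
      Odd (S₂.relIndex (normalClosure (S₂ : Set G))) := by
  have hcomm : ⁅normalClosure (S₁ : Set G), normalClosure (S₂ : Set G)⁆ = ⊥ :=
    le_bot_iff.1 (hO ▸ thm G P S₁ S₂ h)
  have h1 := inf_normalClosure_eq h hP hcomm
  have h2 := inf_normalClosure_eq h.symm (by rw [sup_comm, hP]) (by rwa [commutator_comm])
  have hodd : ∀ (S N : Subgroup G) [N.Normal], (P : Subgroup G) ⊓ N = S → Odd (S.relIndex N) := by
    intro S N _ hS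
    obtain ⟨Q, hQ⟩ := exists_sylow_inf P N
    rw [← hS, inf_relIndex_right, Subgroup.relIndex, ← hQ]
    exact Nat.odd_iff.2 (Nat.two_dvd_ne_zero.1 Q.not_dvd_index)
  refine ⟨⟨le_top, le_top, fun a ha b hb => commutatorElement_eq_one_iff_mul_comm.1
    (mem_bot.1 (hcomm ▸ commutator_mem_commutator ha hb)), ?_, ?_⟩, hodd _ _ h1, hodd _ _ h2⟩
  · set X := normalClosure (S₁ : Set G) ⊓ normalClosure (S₂ : Set G) with hX
    obtain ⟨Q, hQ⟩ := exists_sylow_inf P X
    have hbot : (Q : Subgroup ↥X) = ⊥ := by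
      rw [eq_bot_iff, hQ]
      intro x hx
      rw [mem_subgroupOf] at hx
      obtain ⟨hx1, hx2⟩ := mem_inf.1 x.2
      exact mem_bot.2 (Subtype.ext (h.eq_one (h1.le (mem_inf.2 ⟨hx, hx1⟩))
        (h2.le (mem_inf.2 ⟨hx, hx2⟩))))
    have hXodd : Odd (Nat.card X) := by
      have h3 := Q.not_dvd_index
      rw [hbot, index_bot] at h3
      exact Nat.odd_iff.2 (Nat.two_dvd_ne_zero.1 h3)
    exact le_bot_iff.1 (hO ▸ CfsgLib.Base.le_oddCore hXodd)
  · refine hO' _ inferInstance ?_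
    have hle : (P : Subgroup G) ≤ normalClosure (S₁ : Set G) ⊔ normalClosure (S₂ : Set G) :=
      hP ▸ sup_le_sup le_normalClosure le_normalClosure
    exact Nat.odd_iff.2 (Nat.two_dvd_ne_zero.1
      (fun hd => P.not_dvd_index (hd.trans (index_dvd_of_le hle))))

end CfsgLib.StrongClosedPair
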