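import Mathlib
import Cfsg.Prelude.Def_TwoFusion
import Cfsg.Agent.Lib.Base.Cores
import Cfsg.Agent.Lib.PGroups.Basic
import Cfsg.Agent.Lib.Transfer.StronglyClosed
import Cfsg.Agent.Lib.Involutions.ZStar.Main

/-!
# Two commuting strongly closed 2-subgroups: transport and induction tools
-/

set_option autoImplicit false
set_option linter.style.haveILetI false
set_option linter.unusedSectionVars false

open scoped Pointwise commutatorElement

namespace CfsgLib.StrongClosedPair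

open Cfsg Subgroup

universe u

variable {G : Type u} [Group G]

/-- Two commuting disjoint subgroups of `P`, each strongly closed in `P`. -/
structure Pair (P : Sylow 2 G) (S₁ S₂ : Subgroup G) : Prop where
  comm : ∀ a ∈ S₁, ∀ b ∈ S₂, a * b = b * a
  disj : S₁ ⊓ S₂ = ⊥
  sc₁ : IsStronglyClosed S₁ (P : Subgroup G)
  sc₂ : IsStronglyClosed S₂ (P : Subgroup G)

/-- The product fusion theorem, as an induction statement. -/
def Thm (G : Type u) [Group G] : Prop :=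
  ∀ (P : Sylow 2 G) (S₁ S₂ : Subgroup G), Pair P S₁ S₂ →
    ⁅normalClosure (S₁ : Set G), normalClosure (S₂ : Set G)⁆ ≤ oddCore G

/-- The induction hypothesis. -/
def IH (G : Type u) : Prop :=
  ∀ (H : Type u) [Group H] [Finite H], Nat.card H < Nat.card G → Thm H

variable {P : Sylow 2 G} {S₁ S₂ S : Subgroup G}

theorem Pair.symm (h : Pair P S₁ S₂) : Pair P S₂ S₁ :=
  ⟨fun a ha b hb => (h.comm b hb a ha).symm, by rw [inf_comm]; exact h.disj, h.sc₂, h.sc₁⟩

theorem Pair.eq_one (h : Pair P S₁ S₂) {x : G} (h1 : x ∈ S₁) (h2 : x ∈ S₂) : x = 1 :=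
  mem_bot.1 (h.disj ▸ mem_inf.2 ⟨h1, h2⟩)

/-- No nontrivial element of `S₁` is fused to an element of `S₂`. -/
theorem Pair.fused_eq_one (h : Pair P S₁ S₂) {x g : G} (h1 : x ∈ S₁) (h2 : g * x * g⁻¹ ∈ S₂) :
    x = 1 :=
  conj_eq_one_iff.1 (h.eq_one (h.sc₁.2 x h1 g (h.sc₂.1 h2)) h2)

/-- An element of `S₁` inside a conjugate of `P` lies in the conjugate of `S₁`. -/
theorem mem_conj_of_mem (hS : IsStronglyClosed S (P : Subgroup G)) {x g : G} (hx : x ∈ S)
    (hg : g⁻¹ * x * g ∈ (P : Subgroup G)) : g⁻¹ * x * g ∈ S := by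
  have := hS.2 x hx g⁻¹
  rw [inv_inv] at this
  exact this hg

theorem conj_mem_of_mem_P (hS : IsStronglyClosed S (P : Subgroup G)) {x p : G} (hx : x ∈ S)
    (hp : p ∈ (P : Subgroup G)) : p * x * p⁻¹ ∈ S :=
  hS.2 x hx p (mul_mem (mul_mem hp (hS.1 hx)) (inv_mem hp))

theorem isPGroup_le (hS : IsStronglyClosed S (P : Subgroup G)) : IsPGroup 2 S := P.2.to_le hS.1

theorem isPGroup_zpowers_of_mem {x : G} {R : Subgroup G} (hR : IsPGroup 2 R) (hx : x ∈ R) :
    IsPGroup 2 (zpowers x) :=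
  hR.to_le (zpowers_le.2 hx)

theorem isPGroup_zpowers_conj {x : G} (g : G) (hx : IsPGroup 2 (zpowers x)) :
    IsPGroup 2 (zpowers (g * x * g⁻¹)) := by
  have := hx.map (MulAut.conj g).toMonoidHom
  rwa [MonoidHom.map_zpowers] at this

variable [Finite G]

/-- Every 2-subgroup is conjugate into `P`. -/
theorem exists_conj_le (P : Sylow 2 G) {V : Subgroup G} (hV : IsPGroup 2 V) :
    ∃ g : G, ∀ v ∈ V, g⁻¹ * v * g ∈ (P : Subgroup G) := by
  obtain ⟨k, -, hk⟩ := CfsgLib.Transfer.exists_conj_le_of_isPGroup (K := (⊤ : Subgroup G)) P.2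
    le_top (fun h => P.not_dvd_index (by rwa [relIndex_top_right] at h)) hV le_top
  exact ⟨k, hk⟩

/-- A 2-element of `N ⊔ P` is conjugate into `P` by an element of the normal subgroup `N`. -/
theorem exists_conj_mem_of_normal (P : Sylow 2 G) (N : Subgroup G) [N.Normal] {y : G}
    (hy : y ∈ N ⊔ (P : Subgroup G)) (h2 : IsPGroup 2 (zpowers y)) :
    ∃ n ∈ N, n⁻¹ * y * n ∈ (P : Subgroup G) := by
  obtain ⟨k, hk, hkP⟩ := CfsgLib.Transfer.exists_conj_le_of_isPGroup (K := N ⊔ (P : Subgroup G))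
    P.2 le_sup_right (fun h => P.not_dvd_index (h.trans (relIndex_dvd_index_of_le le_sup_right)))
    h2 (zpowers_le.mpr hy)
  obtain ⟨n, hn, u, hu, rfl⟩ := mem_sup_of_normal_left.mp hk
  refine ⟨n, hn, ?_⟩
  have h := mul_mem (mul_mem hu (hkP y (mem_zpowers y))) (inv_mem hu)
  convert h using 1
  group

/-- Conjugates of an element of a strongly closed subgroup lying in a normal subgroup `N`. -/
theorem exists_normal_conj (hS : IsStronglyClosed S (P : Subgroup G)) (N : Subgroup G) [N.Normal]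
    {x : G} (hx : x ∈ S) (hxN : x ∈ N) (g : G) :
    ∃ n ∈ N, ∃ s ∈ S ⊓ N, g * x * g⁻¹ = n * s * n⁻¹ := by
  have hgN : g * x * g⁻¹ ∈ N := Normal.conj_mem inferInstance x hxN g
  obtain ⟨n, hn, hP⟩ := exists_conj_mem_of_normal P N (mem_sup_left hgN)
    (isPGroup_zpowers_conj g (isPGroup_zpowers_of_mem (isPGroup_le hS) hx))
  refine ⟨n, hn, n⁻¹ * (g * x * g⁻¹) * n, mem_inf.2 ⟨?_, mul_mem (mul_mem (inv_mem hn) hgN) hn⟩,
    by group⟩
  have e : n⁻¹ * (g * x * g⁻¹) * n = (n⁻¹ * g) * x * (n⁻¹ * g)⁻¹ := by group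
  rw [e] at hP ⊢
  exact hS.2 x hx _ hP

/-- Commuting 2-elements lie in a common conjugate of `P`. -/
theorem exists_conj_mem₂ (P : Sylow 2 G) {x y : G} (hxy : Commute x y)
    (hx : IsPGroup 2 (zpowers x)) (hy : IsPGroup 2 (zpowers y)) :
    ∃ g : G, g⁻¹ * x * g ∈ (P : Subgroup G) ∧ g⁻¹ * y * g ∈ (P : Subgroup G) := by
  have hn : zpowers y ≤ normalizer (zpowers x : Set G) :=
    le_trans (zpowers_le.2 (mem_centralizer_iff.2 fun z hz => by
      obtain ⟨k, rfl⟩ := mem_zpowers_iff.1 hz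
      exact (hxy.zpow_left k).eq)) (centralizer_le_normalizer _)
  obtain ⟨g, hg⟩ := exists_conj_le P (hx.to_sup_of_normal_left' hy hn)
  exact ⟨g, hg x (mem_sup_left (mem_zpowers x)), hg y (mem_sup_right (mem_zpowers y))⟩

/-- An involution of `P` without other conjugates in `P` is central when `O(G) = 1`. -/
theorem mem_center_of_fixed (hO : oddCore G = ⊥) {z : G} (hz : orderOf z = 2)
    (hzP : z ∈ (P : Subgroup G))
    (h : ∀ g : G, g * z * g⁻¹ ∈ (P : Subgroup G) → g * z * g⁻¹ = z) : z ∈ center G := by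
  refine CfsgLib.Involutions.ZStar.mem_center_of_oddCore_eq_bot ⟨hz, fun g hcm => ?_⟩ hO
  have h2 : IsPGroup 2 (zpowers z) := isPGroup_zpowers_of_mem P.2 hzP
  obtain ⟨k, hk1, hk2⟩ := exists_conj_mem₂ P hcm h2 (isPGroup_zpowers_conj g h2)
  have e1 : k⁻¹ * z * k⁻¹⁻¹ = z := h k⁻¹ (by rwa [inv_inv])
  have e : k⁻¹ * (g * z * g⁻¹) * k = (k⁻¹ * g) * z * (k⁻¹ * g)⁻¹ := by group
  have e2 : (k⁻¹ * g) * z * (k⁻¹ * g)⁻¹ = z := h _ (e ▸ hk2)
  calc g * z * g⁻¹ = k * ((k⁻¹ * g) * z * (k⁻¹ * g)⁻¹) * k⁻¹ := by group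
    _ = k * (k⁻¹ * z * k⁻¹⁻¹) * k⁻¹ := by rw [e2, e1]
    _ = z := by group

/-- A nontrivial 2-subgroup normalised by `P` inside `P` contains an involution central in `P`. -/
theorem exists_central_involution (P : Sylow 2 G) {X : Subgroup G} (hX : X ≠ ⊥)
    (hXP : X ≤ (P : Subgroup G)) (hn : (P : Subgroup G) ≤ normalizer (X : Set G)) :
    ∃ z ∈ X, orderOf z = 2 ∧ ∀ p ∈ (P : Subgroup G), p * z = z * p := by
  haveI : (X.subgroupOf (P : Subgroup G)).Normal := normal_subgroupOf_of_le_normalizer hn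
  have h0 : X.subgroupOf (P : Subgroup G) ≠ ⊥ := fun h => hX (by
    rw [← map_subgroupOf_eq_of_le hXP, h, Subgroup.map_bot])
  have h1 := CfsgLib.PGroups.inf_center_ne_bot P.2 h0
  obtain ⟨z, hz⟩ := exists_prime_orderOf_dvd_card' (p := 2)
    (((P.2.to_subgroup _).card_eq_or_dvd).resolve_left fun h => h1 (eq_bot_of_card_eq _ h))
  refine ⟨((z : ↥(P : Subgroup G)) : G), (mem_inf.1 z.2).1, ?_, fun p hp => ?_⟩
  · rw [Subgroup.orderOf_coe, Subgroup.orderOf_coe, hz]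
  · exact congrArg Subtype.val (mem_center_iff.1 (mem_inf.1 z.2).2 ⟨p, hp⟩)

/-- The image of a pair in a quotient by a normal subgroup meeting `P` inside `S₁`. -/
theorem Pair.quotient (h : Pair P S₁ S₂) (N : Subgroup G) [N.Normal]
    (hN : N ⊓ (P : Subgroup G) ≤ S₁) :
    Pair (P.mapSurjective (QuotientGroup.mk'_surjective N)) (S₁.map (QuotientGroup.mk' N))
      (S₂.map (QuotientGroup.mk' N)) := by
  refine ⟨?_, ?_, ?_, ?_⟩
  · rintro _ ⟨a, ha, rfl⟩ _ ⟨b, hb, rfl⟩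
    rw [← map_mul, ← map_mul, h.comm a ha b hb]
  · rw [eq_bot_iff]
    rintro _ ⟨⟨a, ha, rfl⟩, b, hb, hba⟩
    have hab : a⁻¹ * b ∈ S₁ := hN (mem_inf.2 ⟨QuotientGroup.eq.1 hba.symm,
      mul_mem (inv_mem (h.sc₁.1 ha)) (h.sc₂.1 hb)⟩)
    have hb1 : b = 1 := h.eq_one (by simpa using mul_mem ha hab) hb
    rw [mem_bot, ← hba, hb1, map_one]
  · rw [Sylow.coe_mapSurjective]
    exact CfsgLib.Transfer.stronglyClosed_map_mk P h.sc₁ N
  · rw [Sylow.coe_mapSurjective]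
    exact CfsgLib.Transfer.stronglyClosed_map_mk P h.sc₂ N

/-- The conclusion in a quotient, pulled back. -/
theorem Pair.quotient_commutator (h : Pair P S₁ S₂) (N : Subgroup G) [N.Normal]
    (hN : N ⊓ (P : Subgroup G) ≤ S₁) (hthm : Thm (G ⧸ N)) :
    ⁅normalClosure (S₁ : Set G), normalClosure (S₂ : Set G)⁆ ≤
      (oddCore (G ⧸ N)).comap (QuotientGroup.mk' N) := by
  have := hthm _ _ _ (h.quotient N hN)
  rw [Subgroup.coe_map, Subgroup.coe_map,
    ← map_normalClosure _ _ (QuotientGroup.mk'_surjective N),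
    ← map_normalClosure _ _ (QuotientGroup.mk'_surjective N), ← map_commutator] at this
  exact map_le_iff_le_comap.1 this

/-- Induction in a proper subgroup. -/
theorem Pair.exists_local (ih : IH G) (h : Pair P S₁ S₂) {H : Subgroup G} (hH : H ≠ ⊤)
    {R : Subgroup G} (hR : IsPGroup 2 R) (_hRH : R ≤ H) :
    ∃ M₁ M₂ : Subgroup ↥H, M₁.Normal ∧ M₂.Normal ∧ ⁅M₁, M₂⁆ ≤ oddCore ↥H ∧
      (S₁ ⊓ R).subgroupOf H ≤ M₁ ∧ (S₂ ⊓ R).subgroupOf H ≤ M₂ := by
  obtain ⟨Q, hQ⟩ := (hR.comap_subtype (K := H)).exists_le_sylow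
  obtain ⟨k, hk⟩ := exists_conj_le P (Q.2.map H.subtype)
  let c : Subgroup G → Subgroup ↥H := fun S =>
    (S.comap (MulAut.conj k⁻¹).toMonoidHom).subgroupOf H ⊓ (Q : Subgroup ↥H)
  have hc : ∀ {S : Subgroup G} {x : ↥H}, x ∈ c S ↔ k⁻¹ * (x : G) * k ∈ S ∧ x ∈ Q := by
    intro S x
    rw [mem_inf, mem_subgroupOf, mem_comap, MulEquiv.coe_toMonoidHom, MulAut.conj_apply, inv_inv]
    rfl
  have hsc : ∀ S, IsStronglyClosed S (P : Subgroup G) → IsStronglyClosed (c S) (Q : Subgroup ↥H) := by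
    refine fun S hS => ⟨inf_le_right, fun x hx g hg => hc.2 ⟨?_, hg⟩⟩
    have h2 := hk _ (mem_map_of_mem H.subtype hg)
    have e : k⁻¹ * ((g * x * g⁻¹ : ↥H) : G) * k =
        (k⁻¹ * g * k) * (k⁻¹ * (x : G) * k) * (k⁻¹ * g * k)⁻¹ := by push_cast; group
    rw [e]
    refine hS.2 _ (hc.1 hx).1 _ ?_
    rw [← e]
    exact h2
  have hmem : ∀ S, IsStronglyClosed S (P : Subgroup G) → (S ⊓ R).subgroupOf H ≤ c S := by
    intro S hS x hx
    have hxQ : x ∈ (Q : Subgroup ↥H) := hQ (mem_subgroupOf.2 (mem_inf.1 (mem_subgroupOf.1 hx)).2)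
    exact hc.2 ⟨mem_conj_of_mem hS (mem_inf.1 (mem_subgroupOf.1 hx)).1
      (hk _ (mem_map_of_mem H.subtype hxQ)), hxQ⟩
  have hp : Pair Q (c S₁) (c S₂) := by
    refine ⟨fun a ha b hb => ?_, ?_, hsc _ h.sc₁, hsc _ h.sc₂⟩
    · apply Subtype.ext
      have e := h.comm _ (hc.1 ha).1 _ (hc.1 hb).1
      push_cast
      calc (a : G) * b = k * ((k⁻¹ * a * k) * (k⁻¹ * b * k)) * k⁻¹ := by group
        _ = k * ((k⁻¹ * b * k) * (k⁻¹ * a * k)) * k⁻¹ := by rw [e]
        _ = (b : G) * a := by group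
    · rw [eq_bot_iff]
      intro x hx
      have h1 := h.eq_one (hc.1 (mem_inf.1 hx).1).1 (hc.1 (mem_inf.1 hx).2).1
      refine mem_bot.2 (Subtype.ext ?_)
      calc (x : G) = k * (k⁻¹ * x * k) * k⁻¹ := by group
        _ = 1 := by rw [h1]; group
  have hlt : Nat.card H < Nat.card G := lt_of_le_of_ne (card_le_card_group H)
    fun e => hH (eq_top_of_card_eq H e)
  exact ⟨normalClosure (c S₁ : Set ↥H), normalClosure (c S₂ : Set ↥H), normalClosure_normal,
    normalClosure_normal, ih _ hlt Q _ _ hp, (hmem _ h.sc₁).trans le_normalClosure,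
    (hmem _ h.sc₂).trans le_normalClosure⟩

/-- An element of the odd core of a subgroup containing the normal subgroup `N` meets `N`
trivially. -/
theorem eq_one_of_mem_core_inf (hO : oddCore G = ⊥) {N H : Subgroup G} [N.Normal] (hNH : N ≤ H)
    {x : ↥H} (hx : x ∈ oddCore ↥H) (hxN : (x : G) ∈ N) : x = 1 := by
  have h1 : ((oddCore ↥H).map H.subtype ⊓ N) ≤ (pPrimeCore 2 ↥N).map N.subtype :=
    CfsgLib.Base.le_map_pPrimeCore inf_le_right
      ((le_inf (hNH.trans (CfsgLib.Base.le_normalizer_map_pPrimeCore H)) le_normalizer).trans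
        inf_normalizer_le_normalizer_inf)
      ((CfsgLib.Base.coprime_card_map_pPrimeCore H).coprime_dvd_left (card_dvd_of_le inf_le_left))
  have h2 := (CfsgLib.Base.map_pPrimeCore_le_of_isSubnormal (p := 2)
    (Normal.isSubnormal (inferInstance : N.Normal))) (h1 (mem_inf.2 ⟨mem_map_of_mem _ hx, hxN⟩))
  rw [show pPrimeCore 2 G = oddCore G from rfl, hO, mem_bot] at h2
  exact Subtype.ext h2

/-- If `N P` is proper then `S₂` centralises the conjugates of the elements of `S₁ ∩ N`. -/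
theorem Pair.le_centralizer_closure (ih : IH G) (hO : oddCore G = ⊥) (h : Pair P S₁ S₂)
    (N : Subgroup G) [N.Normal] (hN : N ⊔ (P : Subgroup G) ≠ ⊤) {x : G} (hx : x ∈ S₁)
    (hxN : x ∈ N) (g : G) {y : G} (hy : y ∈ S₂) : g * x * g⁻¹ * y = y * (g * x * g⁻¹) := by
  set H := N ⊔ (P : Subgroup G) with hH
  obtain ⟨M₁, M₂, hn1, hn2, hM, h1, h2⟩ := h.exists_local ih hN (R := (P : Subgroup G)) P.2 le_sup_right
  obtain ⟨n, hn, s, hs, e⟩ := exists_normal_conj h.sc₁ N hx hxN g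
  rw [e]
  let sH : ↥H := ⟨s, mem_sup_right (h.sc₁.1 (mem_inf.1 hs).1)⟩
  let nH : ↥H := ⟨n, mem_sup_left hn⟩
  let yH : ↥H := ⟨y, mem_sup_right (h.sc₂.1 hy)⟩
  have hsM0 : sH ∈ M₁ :=
    h1 (mem_subgroupOf.2 (mem_inf.2 ⟨(mem_inf.1 hs).1, h.sc₁.1 (mem_inf.1 hs).1⟩))
  have hsM : nH * sH * nH⁻¹ ∈ M₁ := hn1.conj_mem _ hsM0 _
  have hyM : yH ∈ M₂ := h2 (mem_subgroupOf.2 (mem_inf.2 ⟨hy, h.sc₂.1 hy⟩))
  have hc := hM (commutator_mem_commutator hsM hyM)
  have hcN : ((⁅nH * sH * nH⁻¹, yH⁆ : ↥H) : G) ∈ N := by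
    have hq : n * s * n⁻¹ ∈ N := mul_mem (mul_mem hn (mem_inf.1 hs).2) (inv_mem hn)
    show ⁅n * s * n⁻¹, y⁆ ∈ N
    rw [commutatorElement_def, mul_assoc, mul_assoc]
    refine mul_mem hq ?_
    rw [← mul_assoc]
    exact Normal.conj_mem inferInstance _ (inv_mem hq) y
  exact commutatorElement_eq_one_iff_mul_comm.1
    (congrArg Subtype.val (eq_one_of_mem_core_inf hO (le_sup_left : N ≤ H) hc hcN))

/-- If `S₂` centralises every conjugate of a set, the normal closure of `S₂` centralises it. -/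
theorem closure_le_centralizer {X : Set G} {T : Subgroup G}
    (h : ∀ x ∈ X, ∀ g : G, ∀ y ∈ T, g * x * g⁻¹ * y = y * (g * x * g⁻¹)) :
    normalClosure (T : Set G) ≤ centralizer (normalClosure X : Set G) := by
  have hT : (T : Set G) ⊆ centralizer (normalClosure X : Set G) := by
    intro y hy
    have hle : normalClosure X ≤ centralizer ({y} : Set G) := by
      rw [normalClosure, closure_le]
      intro z hz
      obtain ⟨x, hx, hxz⟩ := Group.mem_conjugatesOfSet_iff.1 hz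
      obtain ⟨g, rfl⟩ := isConj_iff.1 hxz
      exact mem_centralizer_singleton_iff.2 (h x hx g y hy)
    exact mem_centralizer_iff.2 fun z hz => mem_centralizer_singleton_iff.1 (hle hz)
  haveI : (centralizer (normalClosure X : Set G)).Normal := inferInstance
  exact normalClosure_le_normal hT

end CfsgLib.StrongClosedPair
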