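import Cfsg.Agent.Lib.StrongClosedPair.Pairs

/-!
# The final configuration is impossible
-/

set_option autoImplicit false
set_option linter.style.haveILetI false
set_option linter.unusedSectionVars false

open scoped Pointwise commutatorElement

namespace CfsgLib.StrongClosedPair

open Cfsg Subgroup MulAction

universe u

variable {G : Type u} [Group G] [Finite G] {P : Sylow 2 G} {S₁ S₂ : Subgroup G}

/-- No proper subgroup containing `P` contains all conjugates of an involution of `S₁`. -/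
theorem Min.false_of_proper (M : Min P S₁ S₂) {a : G} (ha : a ∈ S₁) (hao : orderOf a = 2)
    {K : Subgroup G} (hK : K ≠ ⊤) (hPK : (P : Subgroup G) ≤ K)
    (hc : ∀ g : G, g * a * g⁻¹ ∈ K) : False := by
  set N := normalClosure ({a} : Set G) with hN
  have hNK : N ≤ K := by
    rw [hN, normalClosure, closure_le]
    intro z hz
    obtain ⟨x, hx, hxz⟩ := Group.mem_conjugatesOfSet_iff.1 hz
    rw [Set.mem_singleton_iff] at hx
    subst hx
    obtain ⟨g, rfl⟩ := isConj_iff.1 hxz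
    exact hc g
  have hNP : N ⊔ (P : Subgroup G) ≠ ⊤ := fun h => hK (top_le_iff.1 (h ▸ sup_le hNK hPK))
  have haN : a ∈ N := subset_normalClosure rfl
  have hle := closure_le_centralizer (X := ({a} : Set G)) (T := S₂) fun x hx g y hy => by
    rw [Set.mem_singleton_iff] at hx
    subst hx
    exact M.toPair.le_centralizer_closure M.ih M.core N hNP ha haN g hy
  rw [M.gen₂] at hle
  refine ne_one_of_orderOf hao (M.nc₁ a ha (sq_of_orderOf hao) (mem_center_iff.2 fun g => ?_))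
  exact (mem_centralizer_iff.1 (hle (mem_top g)) a (subset_normalClosure rfl)).symm

/-- The configuration left by the reductions is impossible. -/
theorem Min.false (M : Min P S₁ S₂) : False := by
  obtain ⟨z₁, z₂, B⟩ := M.exists_base
  have hz1 := ne_one_of_orderOf B.ord₁
  have hz2 := ne_one_of_orderOf B.ord₂
  set W := Wf z₁ z₂ with hW
  set C := centralizer ({z₂} : Set G) with hC
  have hPC : (P : Subgroup G) ≤ C := fun p hp => mem_centralizer_singleton_iff.2 (B.cen₂ p hp)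
  have hCtop : C ≠ ⊤ := fun h => hz2 (M.nc₂ z₂ B.mem₂ (sq_of_orderOf B.ord₂)
    (mem_center_iff.2 fun g => mem_centralizer_singleton_iff.1 (show g ∈ C from h ▸ mem_top g)))
  have hmem₁ : ∀ {k g : G}, k⁻¹ * (g * z₁ * g⁻¹) * k ∈ (P : Subgroup G) →
      k⁻¹ * (g * z₁ * g⁻¹) * k ∈ S₁ := by
    intro k g h
    have e : k⁻¹ * (g * z₁ * g⁻¹) * k = (k⁻¹ * g) * z₁ * (k⁻¹ * g)⁻¹ := by group
    rw [e] at h ⊢
    exact M.sc₁.2 z₁ B.mem₁ _ h
  have hp₁ : ∀ g : G, IsPGroup 2 (zpowers (g * z₁ * g⁻¹)) := fun g =>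
    isPGroup_zpowers_conj g (isPGroup_zpowers_of_mem P.2 (M.sc₁.1 B.mem₁))
  by_cases hWbot : W = ⊥
  · refine M.false_of_proper B.mem₁ B.ord₁ hCtop hPC fun g => ?_
    obtain ⟨v, hcm, hv⟩ := M.exists_pair B B.mem₁ B.ord₁ B.mem₂ B.ord₂ g
    have hp₂ := isPGroup_zpowers_conj v (isPGroup_zpowers_of_mem P.2 (M.sc₂.1 B.mem₂))
    obtain ⟨k, hk1, hk2⟩ := exists_conj_mem₂ P hcm (hp₁ g) hp₂
    have e : k⁻¹ * (v * z₂ * v⁻¹) * k = (k⁻¹ * v) * z₂ * (k⁻¹ * v)⁻¹ := by group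
    have hk2' : k⁻¹ * (v * z₂ * v⁻¹) * k ∈ S₂ := by
      rw [e] at hk2 ⊢
      exact M.sc₂.2 z₂ B.mem₂ _ hk2
    have hv1 := hv k (hmem₁ hk1) hk2'
    rw [← hW, hWbot, mem_bot] at hv1
    have hv2 : v = 1 := by
      calc v = k * (k⁻¹ * v * k) * k⁻¹ := by group
        _ = 1 := by rw [hv1]; group
    rw [hv2, one_mul, inv_one, mul_one] at hcm
    exact mem_centralizer_singleton_iff.2 hcm.eq
  set H := normalizer (W : Set G) with hH
  have hHtop : H ≠ ⊤ := fun h => by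
    haveI : W.Normal := normalizer_eq_top_iff.1 h
    exact hWbot (le_bot_iff.1 (M.core ▸ CfsgLib.Base.le_oddCore (M.odd_Wf B)))
  have hfixpair : ∀ {a e g : G}, a ∈ S₁ → orderOf a = 2 → e ∈ S₂ → orderOf e = 2 →
      g * a * g⁻¹ ∈ S₁ → g * e * g⁻¹ ∈ S₂ → g ∈ H := fun ha hao he heo h1 h2 =>
    M.mem_normalizer_Wf B ha hao he heo h1 h2
  have hPH : (P : Subgroup G) ≤ H := fun p hp => hfixpair B.mem₁ B.ord₁ B.mem₂ B.ord₂
    (conj_mem_of_mem_P M.sc₁ B.mem₁ hp) (conj_mem_of_mem_P M.sc₂ B.mem₂ hp)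
  have hOc : ∀ e ∈ S₂, orderOf e = 2 → Oc e ≤ H := by
    intro e he heo
    have hn : zpowers z₁ ≤ normalizer (Oc e : Set G) := (zpowers_le.2
      (mem_centralizer_singleton_iff.2 (M.toPair.comm z₁ B.mem₁ e he))).trans
      (CfsgLib.Base.le_normalizer_map_pPrimeCore _)
    have hcop : (Nat.card (zpowers z₁)).Coprime (Nat.card (Oc e)) := by
      rw [Nat.card_zpowers, B.ord₁]
      exact (CfsgLib.CoreSep.coprime_core e le_rfl).symm
    rw [← CfsgLib.Coprime.commutator_sup_centralizer hn hcop (Or.inl inferInstance)]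
    refine sup_le ?_ fun o ho => ?_
    · refine le_trans ?_ (Subgroup.le_normalizer (H := W))
      rw [hW, ← M.Wf_eq B B.mem₁ B.ord₁ he heo, Wf]
      exact le_trans le_sup_left (le_trans le_sup_right le_sup_left)
    · have h1 : o * z₁ * o⁻¹ = z₁ := by
        rw [← mem_centralizer_iff.1 (mem_inf.1 ho).2 z₁ (mem_zpowers z₁), mul_inv_cancel_right]
      have h2 : o * e * o⁻¹ = e := by
        rw [mem_centralizer_singleton_iff.1 (Oc_le (mem_inf.1 ho).1), mul_inv_cancel_right]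
      exact hfixpair B.mem₁ B.ord₁ he heo (by rw [h1]; exact B.mem₁) (by rw [h2]; exact he)
  -- `C = C(S₂) (C ∩ H)`
  obtain ⟨M₁, M₂, hn1, hn2, hM, hR1, hR2⟩ := M.toPair.exists_local M.ih hCtop
    (R := (P : Subgroup G)) P.2 hPC
  haveI := hn1
  have hdec : ∀ c ∈ C, ∃ l ∈ C, (∀ y ∈ S₂, l * y = y * l) ∧ l⁻¹ * c ∈ H := by
    intro c hc
    have hz1C : z₁ ∈ C := hPC (M.sc₁.1 B.mem₁)
    set z : ↥C := ⟨z₁, hz1C⟩ with hz
    set cC : ↥C := ⟨c, hc⟩ with hcC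
    have hzM : z ∈ M₁ := hR1 (mem_subgroupOf.2 (mem_inf.2 ⟨B.mem₁, M.sc₁.1 B.mem₁⟩))
    have hzp : IsPGroup 2 (zpowers (cC * z * cC⁻¹)) :=
      isPGroup_zpowers_conj cC (isPGroup_zpowers_of_mem (P.subtype hPC).2
        (show z ∈ ((P.subtype hPC : Sylow 2 ↥C) : Subgroup ↥C) by
          rw [Sylow.coe_subtype, mem_subgroupOf]; exact M.sc₁.1 B.mem₁))
    obtain ⟨n, hn, hnP⟩ := exists_conj_mem_of_normal (P.subtype hPC) M₁
      (mem_sup_left (hn1.conj_mem z hzM cC)) hzp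
    rw [Sylow.coe_subtype, mem_subgroupOf] at hnP
    set A := S₂.subgroupOf C with hA
    have hcop : (Nat.card A).Coprime (Nat.card (oddCore ↥C)) := by
      obtain ⟨r, hr⟩ := IsPGroup.iff_card.1 ((isPGroup_le M.sc₂).comap_subtype (K := C))
      show (Nat.card A).Coprime _
      rw [hA, show S₂.subgroupOf C = S₂.comap C.subtype from rfl, hr]
      exact (Nat.coprime_two_left.2 (CfsgLib.Base.odd_card_oddCore ↥C)).pow_left r
    obtain ⟨l, hl, hln⟩ := CfsgLib.Coprime.exists_centralizing_in_coset (A := A) (N := oddCore ↥C)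
      (fun x _ => le_normalizer_of_normal (H := oddCore ↥C) (mem_top x)) hcop
      (Or.inr (CfsgLib.LBalance.isSolvable_oddCore ↥C)) (k := n) (fun y hy => by
        have hy2 : y ∈ M₂ := hR2 (mem_subgroupOf.2 (mem_inf.2
          ⟨mem_subgroupOf.1 hy, M.sc₂.1 (mem_subgroupOf.1 hy)⟩))
        have h := hM (commutator_mem_commutator (inv_mem hn) hy2)
        rwa [show n⁻¹ * (y * n * y⁻¹) = ⁅n⁻¹, y⁆ by rw [commutatorElement_def]; group])
    refine ⟨(l : G), l.2, fun y hy => ?_, ?_⟩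
    · have hyC : y ∈ C := hPC (M.sc₂.1 hy)
      exact (congrArg Subtype.val (mem_centralizer_iff.1 hl ⟨y, hyC⟩ hy)).symm
    · have h1 : ((n⁻¹ * l : ↥C) : G)⁻¹ ∈ H :=
        inv_mem (hOc z₂ B.mem₂ B.ord₂ (mem_map_of_mem C.subtype hln))
      have h2 : ((n⁻¹ * cC : ↥C) : G) ∈ H := by
        refine hfixpair B.mem₁ B.ord₁ B.mem₂ B.ord₂ ?_ ?_
        · have e : ((n⁻¹ * cC : ↥C) : G) * z₁ * ((n⁻¹ * cC : ↥C) : G)⁻¹ =
              ((n⁻¹ * (cC * z * cC⁻¹) * n : ↥C) : G) := by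
            simp only [hz, hcC]
            push_cast
            group
          rw [e]
          rw [show ((n⁻¹ * (cC * z * cC⁻¹) * n : ↥C) : G) =
            ((n : G)⁻¹ * c) * z₁ * ((n : G)⁻¹ * c)⁻¹ by simp only [hz, hcC]; push_cast; group]
            at hnP ⊢
          exact M.sc₁.2 z₁ B.mem₁ _ hnP
        · rw [mem_centralizer_singleton_iff.1 (n⁻¹ * cC : ↥C).2, mul_inv_cancel_right]
          exact B.mem₂
      convert mul_mem h1 h2 using 1
      simp only [hcC]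
      push_cast
      group
  have hfix : ∀ c ∈ C, ∀ w ∈ W, c⁻¹ * w * c ∈ H := by
    intro c hc w hw
    obtain ⟨l, -, hl, hlh⟩ := hdec c hc
    have hX : W ≤ H.comap (MulAut.conj l⁻¹).toMonoidHom := by
      refine M.Wf_le B fun e he heo x hx => ?_
      rw [mem_comap]
      refine hOc e he heo ?_
      have he' : MulAut.conj l⁻¹ e = e := by
        rw [MulAut.conj_apply, inv_inv, mul_assoc, ← hl e he, inv_mul_cancel_left]
      have := map_conj_Oc l⁻¹ e ▸ mem_map_of_mem (MulAut.conj l⁻¹).toMonoidHom hx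
      rw [MulAut.conj_apply] at he'
      rwa [he'] at this
    have hwl : l⁻¹ * w * l ∈ H := by
      have h := hX hw
      rwa [mem_comap, MulEquiv.coe_toMonoidHom, MulAut.conj_apply, inv_inv] at h
    convert mul_mem (mul_mem (inv_mem hlh) hwl) hlh using 1
    group
  set Ψ : Set G := {x | ∃ c ∈ C, ∃ h ∈ H, c * h = x} with hΨ
  set Δ := stabilizer G Ψ with hΔ
  have hstab : ∀ g : G, (∀ x ∈ Ψ, g * x ∈ Ψ) → (∀ x ∈ Ψ, g⁻¹ * x ∈ Ψ) → g ∈ Δ := by
    intro g h1 h2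
    rw [hΔ, mem_stabilizer_iff]
    ext x
    rw [Set.mem_smul_set_iff_inv_smul_mem, smul_eq_mul]
    exact ⟨fun h => by simpa using h1 _ h, fun h => h2 x h⟩
  have hCΔ : C ≤ Δ := by
    intro c hc
    refine hstab c ?_ ?_ <;> rintro _ ⟨d, hd, h, hh, rfl⟩
    · exact ⟨c * d, mul_mem hc hd, h, hh, mul_assoc _ _ _⟩
    · exact ⟨c⁻¹ * d, mul_mem (inv_mem hc) hd, h, hh, mul_assoc _ _ _⟩
  have hWΔ : W ≤ Δ := by
    intro w hw
    refine hstab w ?_ ?_ <;> rintro _ ⟨d, hd, h, hh, rfl⟩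
    · exact ⟨d, hd, d⁻¹ * w * d * h, mul_mem (hfix d hd w hw) hh, by group⟩
    · exact ⟨d, hd, d⁻¹ * w⁻¹ * d * h, mul_mem (hfix d hd _ (inv_mem hw)) hh, by group⟩
  have hall : ∀ g : G, g * z₁ * g⁻¹ ∈ Δ := by
    intro g
    obtain ⟨v, hcm, hv⟩ := M.exists_pair B B.mem₁ B.ord₁ B.mem₂ B.ord₂ g
    set a₀ := v⁻¹ * (g * z₁ * g⁻¹) * v with ha₀
    have ha₀C : a₀ ∈ C := by
      rw [mem_centralizer_singleton_iff, ha₀]
      calc v⁻¹ * (g * z₁ * g⁻¹) * v * z₂ = v⁻¹ * ((g * z₁ * g⁻¹) * (v * z₂ * v⁻¹)) * v := by group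
        _ = v⁻¹ * ((v * z₂ * v⁻¹) * (g * z₁ * g⁻¹)) * v := by rw [hcm.eq]
        _ = z₂ * (v⁻¹ * (g * z₁ * g⁻¹) * v) := by group
    have ha₀p : IsPGroup 2 (zpowers a₀) := by
      rw [ha₀, show v⁻¹ * (g * z₁ * g⁻¹) * v = (v⁻¹ * g) * z₁ * (v⁻¹ * g)⁻¹ by group]
      exact hp₁ _
    obtain ⟨k, hkC, hk⟩ := CfsgLib.Transfer.exists_conj_le_of_isPGroup (K := C) P.2 hPC
      (fun h => P.not_dvd_index (h.trans (relIndex_dvd_index_of_le hPC))) ha₀p
      (zpowers_le.2 ha₀C)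
    have hk1 : (v * k)⁻¹ * (g * z₁ * g⁻¹) * (v * k) ∈ S₁ := by
      refine hmem₁ ?_
      have := hk a₀ (mem_zpowers a₀)
      convert this using 1
      rw [ha₀]; group
    have hk2 : (v * k)⁻¹ * (v * z₂ * v⁻¹) * (v * k) ∈ S₂ := by
      have : (v * k)⁻¹ * (v * z₂ * v⁻¹) * (v * k) = z₂ := by
        calc (v * k)⁻¹ * (v * z₂ * v⁻¹) * (v * k) = k⁻¹ * (z₂ * k) := by group
          _ = k⁻¹ * (k * z₂) := by rw [mem_centralizer_singleton_iff.1 hkC]
          _ = z₂ := inv_mul_cancel_left _ _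
      rw [this]; exact B.mem₂
    have hq := hv (v * k) hk1 hk2
    have hvΔ : v ∈ Δ := by
      convert mul_mem (mul_mem (hCΔ hkC) (hWΔ hq)) (inv_mem (hCΔ hkC)) using 1
      group
    convert mul_mem (mul_mem hvΔ (hCΔ ha₀C)) (inv_mem hvΔ) using 1
    rw [ha₀]; group
  by_cases hΔtop : Δ = ⊤
  · refine M.symm.false_of_proper B.mem₂ B.ord₂ hHtop hPH fun g => ?_
    have h1 : g⁻¹ ∈ Δ := hΔtop ▸ mem_top _
    rw [hΔ, mem_stabilizer_iff] at h1
    have h2 : g⁻¹ ∈ Ψ := by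
      rw [← h1, Set.mem_smul_set_iff_inv_smul_mem, smul_eq_mul, inv_mul_cancel]
      exact ⟨1, one_mem _, 1, one_mem _, mul_one 1⟩
    obtain ⟨c, hc, h, hh, he⟩ := h2
    have hg : g = h⁻¹ * c⁻¹ := by rw [← mul_inv_rev, he, inv_inv]
    rw [hg, show h⁻¹ * c⁻¹ * z₂ * (h⁻¹ * c⁻¹)⁻¹ = h⁻¹ * (c⁻¹ * (z₂ * c)) * h by group,
      ← mem_centralizer_singleton_iff.1 hc, inv_mul_cancel_left]
    exact mul_mem (mul_mem (inv_mem hh) (hPH (M.sc₂.1 B.mem₂))) hh
  · exact M.false_of_proper B.mem₁ B.ord₁ hΔtop (hPC.trans hCΔ) hall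

end CfsgLib.StrongClosedPair
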