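import Cfsg.Agent.Lib.StrongClosedPair.Basic
import Cfsg.Agent.Lib.Components.CoreSeparated
import Cfsg.Agent.Lib.Signalizer2.Main
import Cfsg.Agent.Lib.Coprime.Basic

/-!
# The signalizer functor attached to four groups in two commuting strongly closed subgroups
-/

set_option autoImplicit false
set_option linter.style.haveILetI false
set_option linter.unusedSectionVars false

open scoped Pointwise commutatorElement

namespace CfsgLib.StrongClosedPair

open Cfsg Subgroup CfsgLib.CoreSep CfsgLib.Components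
open CfsgLib.Base (isPGroup_pCore coprime_card_map_pPrimeCore le_map_pPrimeCore
  le_normalizer_map_pPrimeCore pPrimeCore_quotient_pPrimeCore)

universe u

variable {G : Type u} [Group G] [Finite G] {P : Sylow 2 G} {S₁ S₂ : Subgroup G}

/-- The situation left over by the reductions. -/
structure Min (P : Sylow 2 G) (S₁ S₂ : Subgroup G) : Prop extends Pair P S₁ S₂ where
  ih : IH G
  core : oddCore G = ⊥
  ne₁ : S₁ ≠ ⊥
  ne₂ : S₂ ≠ ⊥
  gen₁ : normalClosure (S₁ : Set G) = ⊤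
  gen₂ : normalClosure (S₂ : Set G) = ⊤
  nc₁ : ∀ a ∈ S₁, a * a = 1 → a ∈ center G → a = 1
  nc₂ : ∀ a ∈ S₂, a * a = 1 → a ∈ center G → a = 1

theorem Min.symm (M : Min P S₁ S₂) : Min P S₂ S₁ :=
  ⟨M.toPair.symm, M.ih, M.core, M.ne₂, M.ne₁, M.gen₂, M.gen₁, M.nc₂, M.nc₁⟩

theorem orderOf_two {a : G} (ha : a * a = 1) (ha1 : a ≠ 1) : orderOf a = 2 :=
  orderOf_eq_prime (by rw [pow_two]; exact ha) ha1

theorem zpowers_cases {a d : G} (ha : a * a = 1) (hd : d ∈ zpowers a) : d = 1 ∨ d = a := by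
  obtain ⟨k, rfl⟩ := mem_zpowers_iff.1 hd
  rcases Int.even_or_odd k with ⟨j, rfl⟩ | ⟨j, rfl⟩
  · left
    rw [← two_mul, zpow_mul, zpow_two, ha, one_zpow]
  · right
    rw [zpow_add, zpow_mul, zpow_two, ha, one_zpow, one_mul, zpow_one]

/-- A product of commuting elements of `S₁` and `S₂` which is central is trivial. -/
theorem Min.eq_one_of_mul_mem_center (M : Min P S₁ S₂) {a b : G} (ha : a ∈ S₁) (hb : b ∈ S₂)
    (ha2 : a * a = 1) (hb2 : b * b = 1) (hc : a * b ∈ center G) : a * b = 1 := by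
  have ha1 : a = 1 := by
    by_contra hne
    refine hne (M.nc₁ a ha ha2 (mem_center_of_fixed M.core (orderOf_two ha2 hne) (M.sc₁.1 ha)
      fun g hg => ?_))
    have hfix : g * (a * b) * g⁻¹ = a * b := by
      rw [mem_center_iff.1 hc g, mul_inv_cancel_right]
    have e : g * b * g⁻¹ = (g * a * g⁻¹)⁻¹ * (a * b) := by
      conv_rhs => rw [← hfix]
      group
    have hb' : g * b * g⁻¹ ∈ S₂ := M.sc₂.2 b hb g (e ▸ mul_mem (inv_mem hg)
      (mul_mem (M.sc₁.1 ha) (M.sc₂.1 hb)))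
    have h2 : b * (g * b * g⁻¹)⁻¹ = a⁻¹ * (g * a * g⁻¹) := by
      rw [e]
      group
    have h3 := M.toPair.eq_one (mul_mem (inv_mem ha) (M.sc₁.2 a ha g hg))
      (h2 ▸ mul_mem hb (inv_mem hb'))
    rwa [inv_mul_eq_one, eq_comm] at h3
  subst ha1
  rw [one_mul] at hc ⊢
  exact M.nc₂ b hb hb2 hc

/-- `C(ab)` is proper. -/
theorem Min.centralizer_ne_top (M : Min P S₁ S₂) {a b : G} (ha : a ∈ S₁) (hb : b ∈ S₂)
    (ha2 : a * a = 1) (hb2 : b * b = 1) (h1 : a * b ≠ 1) :
    centralizer ({a * b} : Set G) ≠ ⊤ := fun h =>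
  h1 (M.eq_one_of_mul_mem_center ha hb ha2 hb2 (mem_center_iff.2 fun g =>
    mem_centralizer_singleton_iff.1 (h ▸ mem_top g)))

/-- Four groups in `S₁` and in `S₂`. -/
structure Fours (S₁ S₂ A₁ A₂ : Subgroup G) : Prop where
  le₁ : A₁ ≤ S₁
  le₂ : A₂ ≤ S₂
  card₁ : Nat.card A₁ = 4
  card₂ : Nat.card A₂ = 4
  elem₁ : IsElementaryAbelian 2 A₁
  elem₂ : IsElementaryAbelian 2 A₂

variable {A₁ A₂ : Subgroup G}

theorem Fours.symm (F : Fours S₁ S₂ A₁ A₂) : Fours S₂ S₁ A₂ A₁ :=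
  ⟨F.le₂, F.le₁, F.card₂, F.card₁, F.elem₂, F.elem₁⟩

theorem Fours.comm (F : Fours S₁ S₂ A₁ A₂) (h : Pair P S₁ S₂) :
    ∀ x ∈ A₁, ∀ y ∈ A₂, x * y = y * x :=
  fun x hx y hy => h.comm x (F.le₁ hx) y (F.le₂ hy)

theorem Fours.le_normalizer (F : Fours S₁ S₂ A₁ A₂) (h : Pair P S₁ S₂) :
    A₁ ≤ normalizer (A₂ : Set G) := fun x hx => centralizer_le_normalizer _
  (mem_centralizer_iff.2 fun y hy => (F.comm h x hx y hy).symm)

theorem Fours.inf_eq_bot (F : Fours S₁ S₂ A₁ A₂) (h : Pair P S₁ S₂) : A₁ ⊓ A₂ = ⊥ :=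
  le_bot_iff.1 (h.disj ▸ inf_le_inf F.le₁ F.le₂)

theorem Fours.split (F : Fours S₁ S₂ A₁ A₂) (h : Pair P S₁ S₂) {y : G} (hy : y ∈ A₁ ⊔ A₂) :
    ∃ a ∈ A₁, ∃ b ∈ A₂, a * b = y := by
  rw [← SetLike.mem_coe, coe_mul_of_left_le_normalizer_right A₁ A₂ (F.le_normalizer h)] at hy
  exact Set.mem_mul.1 hy

theorem sq₁ (F : Fours S₁ S₂ A₁ A₂) {a : G} (ha : a ∈ A₁) : a * a = 1 := by
  rw [← pow_two]; exact F.elem₁.2 a ha

theorem comm₁ (F : Fours S₁ S₂ A₁ A₂) {a b : G} (ha : a ∈ A₁) (hb : b ∈ A₁) : a * b = b * a := by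
  haveI := F.elem₁.1
  exact congrArg Subtype.val (mul_comm' (⟨a, ha⟩ : A₁) ⟨b, hb⟩)

theorem sq₂ (F : Fours S₁ S₂ A₁ A₂) {a : G} (ha : a ∈ A₂) : a * a = 1 := sq₁ F.symm ha

/-- The separation property. -/
theorem Min.separated (M : Min P S₁ S₂) (F : Fours S₁ S₂ A₁ A₂) : IsCoreSeparated A₁ A₂ := by
  refine ⟨F.elem₁, F.elem₂, F.card₁, F.card₂, fun e => ?_, F.inf_eq_bot M.toPair,
    F.comm M.toPair, ?_⟩
  · have := F.inf_eq_bot M.toPair
    rw [← e, inf_idem] at this
    have h4 := F.card₁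
    rw [this, Subgroup.card_bot] at h4
    omega
  intro y hy hy1
  obtain ⟨a₁, ha₁, a₂, ha₂, rfl⟩ := F.split M.toPair hy
  set C := centralizer ({a₁ * a₂} : Set G) with hC
  intro E hE
  have hCtop : C ≠ ⊤ := M.centralizer_ne_top (F.le₁ ha₁) (F.le₂ ha₂) (sq₁ F ha₁) (sq₂ F ha₂) hy1
  have hAC : A₁ ⊔ A₂ ≤ C := by
    refine sup_le (fun x hx => ?_) fun x hx => ?_
    · rw [hC, mem_centralizer_singleton_iff, ← mul_assoc, comm₁ F hx ha₁, mul_assoc,
        F.comm M.toPair x hx a₂ ha₂, mul_assoc]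
    · rw [hC, mem_centralizer_singleton_iff, ← mul_assoc, ← F.comm M.toPair a₁ ha₁ x hx, mul_assoc,
        comm₁ F.symm hx ha₂, mul_assoc]
  have hAp : IsPGroup 2 (A₁ ⊔ A₂ : Subgroup G) :=
    P.2.to_le (sup_le (F.le₁.trans M.sc₁.1) (F.le₂.trans M.sc₂.1))
  obtain ⟨M₁, M₂, hn₁, hn₂, hM, h1, h2⟩ := M.toPair.exists_local M.ih hCtop hAp hAC
  set O := pPrimeCore 2 ↥C with hO
  set φ := QuotientGroup.mk' O with hφ
  have hL : IsComponent (E.map φ) := hE.2.1
  haveI := hn₁.map φ (QuotientGroup.mk'_surjective O)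
  have hMM : ⁅M₁.map φ, M₂.map φ⁆ = ⊥ := by
    rw [← map_commutator, eq_bot_iff, map_le_iff_le_comap]
    refine hM.trans fun x hx => ?_
    rw [mem_comap, mem_bot]
    exact (QuotientGroup.eq_one_iff x).2 hx
  -- a component centralised by the image of a four group
  have key : ∀ (A : Subgroup G) (Mi : Subgroup ↥C), A ≤ A₁ ⊔ A₂ → A.subgroupOf C ≤ Mi →
      ⁅E.map φ, Mi.map φ⁆ = ⊥ → ⁅E.map C.subtype, A⁆ ≤ centralizerPPrimeCore 2 (a₁ * a₂) := by
    intro A Mi hA hAM hcomm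
    have hEA : ⁅E, A.subgroupOf C⁆ ≤ O := by
      have : (⁅E, A.subgroupOf C⁆).map φ = ⊥ := by
        rw [eq_bot_iff, map_commutator, ← hcomm]
        exact commutator_mono le_rfl (map_mono hAM)
      intro x hx
      exact (QuotientGroup.eq_one_iff x).1 (mem_bot.1 (this ▸ mem_map_of_mem φ hx))
    calc ⁅E.map C.subtype, A⁆ = ⁅E.map C.subtype, (A.subgroupOf C).map C.subtype⁆ := by
          rw [map_subgroupOf_eq_of_le (hA.trans hAC)]
      _ = (⁅E, A.subgroupOf C⁆).map C.subtype := (map_commutator _ _ _).symm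
      _ ≤ O.map C.subtype := map_mono hEA
  rcases component_le_or_commutator_eq_bot (H := M₁.map φ) hL
    (Normal.isSubnormal inferInstance) with h | h
  · refine Or.inr (key A₂ M₂ le_sup_right ?_ ?_)
    · exact fun x hx => h2 (mem_subgroupOf.2 (mem_inf.2
        ⟨F.le₂ (mem_subgroupOf.1 hx), mem_sup_right (mem_subgroupOf.1 hx)⟩))
    · exact le_bot_iff.1 ((commutator_mono h le_rfl).trans hMM.le)
  · refine Or.inl (key A₁ M₁ le_sup_left ?_ h)
    exact fun x hx => h1 (mem_subgroupOf.2 (mem_inf.2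
      ⟨F.le₁ (mem_subgroupOf.1 hx), mem_sup_left (mem_subgroupOf.1 hx)⟩))

/-- Abbreviation for `O(C(y))`. -/
noncomputable abbrev Oc (y : G) : Subgroup G := centralizerPPrimeCore 2 y

theorem Oc_le {y : G} : Oc y ≤ centralizer ({y} : Set G) := map_subtype_le _

/-- The value of the functor at an involution of the first group. -/
noncomputable def ths (a e : G) : Subgroup G := ⁅Oc a, zpowers e⁆ ⊔ (Oc a ⊓ Oc e)

/-- The value of the functor at the product of involutions of the two groups. -/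
noncomputable def thp (a e : G) : Subgroup G :=
  ⁅Oc (a * e), zpowers a⁆ ⊔ (ths a e ⊓ centralizer ({a * e} : Set G))

/-- The intrinsic signalizer of a pair of involutions. -/
noncomputable def Wf (a e : G) : Subgroup G := ths a e ⊔ ths e a ⊔ thp a e

/-- The functor. -/
noncomputable def th (A₁ A₂ : Subgroup G) (y : G) : Subgroup G := half A₁ y ⊓ half A₂ y

theorem th_symm (A₁ A₂ : Subgroup G) (y : G) : th A₁ A₂ y = th A₂ A₁ y := inf_comm _ _

variable (M : Min P S₁ S₂) (F : Fours S₁ S₂ A₁ A₂)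
include M F

theorem sf : IsSignalizerFunctor 2 (A₁ ⊔ A₂) (th A₁ A₂) := isSignalizerFunctor (M.separated F)

theorem data : Data A₁ A₂ where
  card₁ := F.card₁
  card₂ := F.card₂
  sep := (M.separated F).2.2.2.2.2.2.2
  comm := by
    intro x hx y hy
    obtain ⟨a, ha, b, hb, rfl⟩ := F.split M.toPair hx
    obtain ⟨c, hc, d, hd, rfl⟩ := F.split M.toPair hy
    have hac : Commute a c := comm₁ F ha hc
    have hbd : Commute b d := comm₁ F.symm hb hd
    exact ((hac.mul_right (F.comm M.toPair a ha d hd)).mul_left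
      ((Commute.symm (F.comm M.toPair c hc b hb)).mul_right hbd)).eq
  sq := by
    intro x hx
    obtain ⟨a, ha, b, hb, rfl⟩ := F.split M.toPair hx
    calc a * b * (a * b) = a * (b * a) * b := by group
      _ = a * (a * b) * b := by rw [F.comm M.toPair a ha b hb]
      _ = (a * a) * (b * b) := by group
      _ = 1 := by rw [sq₁ F ha, sq₂ F hb, one_mul]

theorem sup_le_normalizer_th {y : G} (hy : y ∈ A₁ ⊔ A₂) :
    A₁ ⊔ A₂ ≤ normalizer (th A₁ A₂ y : Set G) := by
  refine (le_inf (le_normalizer_half (data M F) hy) ?_).trans inf_normalizer_le_normalizer_inf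
  rw [sup_comm]
  exact le_normalizer_half (data M.symm F.symm) (sup_comm A₁ A₂ ▸ hy)

theorem th_le_Oc {y : G} (hy : y ∈ A₁ ⊔ A₂) : th A₁ A₂ y ≤ Oc y :=
  inf_le_left.trans (half_le (data M F) hy)

theorem balance {x y : G} (hx : x ∈ A₁ ⊔ A₂) (hx1 : x ≠ 1) (hy : y ∈ A₁ ⊔ A₂) (hy1 : y ≠ 1) :
    th A₁ A₂ x ⊓ centralizer ({y} : Set G) ≤ th A₁ A₂ y :=
  (sf M F).2.2.2 x hx hx1 y hy hy1

theorem half_self {a : G} (ha : a ∈ A₁) : half A₁ a = Oc a := by
  have hsup : a ∈ A₁ ⊔ A₂ := mem_sup_left ha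
  refine le_antisymm (half_le (data M F) hsup) ?_
  have hAO : A₁ ≤ normalizer (Oc a : Set G) :=
    le_sup_left.trans (le_normalizer_core (data M F) hsup)
  conv_lhs => rw [← CfsgLib.Coprime.commutator_sup_centralizer hAO
    (coprime_four F.card₁ (coprime_core a le_rfl)) (Or.inl (isSolvable_four (data M F)))]
  refine sup_le_sup le_rfl (le_inf inf_le_left (le_map_pPrimeCore inf_le_right ?_
    (coprime_core a inf_le_left)))
  exact (le_inf ((centralizer_le (Set.singleton_subset_iff.2 ha)).trans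
    (le_normalizer_map_pPrimeCore _)) Subgroup.le_normalizer).trans inf_normalizer_le_normalizer_inf

theorem coprime_two_core {e : G} (he : e * e = 1) {X : Subgroup G} {y : G} (hX : X ≤ Oc y) :
    (Nat.card (zpowers e)).Coprime (Nat.card X) := by
  rw [Nat.card_zpowers]
  exact (coprime_core y hX).symm.coprime_dvd_left
    (orderOf_dvd_of_pow_eq_one (by rw [pow_two]; exact he))

theorem zpowers_le_normalizer_th {y e : G} (hy : y ∈ A₁ ⊔ A₂) (he : e ∈ A₁ ⊔ A₂) :
    zpowers e ≤ normalizer (th A₁ A₂ y : Set G) :=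
  (zpowers_le.2 he).trans (sup_le_normalizer_th M F hy)

/-- The value at an element of `A₁`. -/
theorem th_left {a e : G} (ha : a ∈ A₁) (ha1 : a ≠ 1) (he : e ∈ A₂) (he1 : e ≠ 1) :
    th A₁ A₂ a = ths a e := by
  have hsup : a ∈ A₁ ⊔ A₂ := mem_sup_left ha
  have hesup : e ∈ A₁ ⊔ A₂ := mem_sup_right he
  refine le_antisymm ?_ (le_inf ?_ ?_)
  · conv_lhs => rw [← CfsgLib.Coprime.commutator_sup_centralizer
      (zpowers_le_normalizer_th M F hsup hesup) (coprime_two_core M F (sq₂ F he) (th_le_Oc M F hsup))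
      (Or.inl inferInstance)]
    refine sup_le_sup (commutator_mono (th_le_Oc M F hsup) le_rfl) (le_inf
      (inf_le_left.trans (th_le_Oc M F hsup)) ?_)
    intro x hx
    refine th_le_Oc M F hesup (balance M F hsup ha1 hesup he1 (mem_inf.2 ⟨(mem_inf.1 hx).1, ?_⟩))
    exact mem_centralizer_singleton_iff.2
      (mem_centralizer_iff.1 (mem_inf.1 hx).2 e (mem_zpowers e)).symm
  · rw [half_self M F ha]
    exact sup_le (CfsgLib.Coprime.commutator_le_of_le_normalizer
      ((zpowers_le.2 hesup).trans (le_normalizer_core (data M F) hsup))) inf_le_left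
  · have hAX : A₂ ≤ normalizer ((Oc a ⊓ Oc e : Subgroup G) : Set G) :=
      le_sup_right.trans ((le_inf (le_normalizer_core (data M F) hsup)
        (le_normalizer_core (data M F) hesup)).trans inf_normalizer_le_normalizer_inf)
    refine sup_le ((commutator_mono le_rfl (zpowers_le.2 he)).trans le_sup_left) ?_
    conv_lhs => rw [← CfsgLib.Coprime.commutator_sup_centralizer hAX
      (coprime_four F.card₂ (coprime_core a inf_le_left))
      (Or.inl (isSolvable_four (data M.symm F.symm)))]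
    refine sup_le_sup (commutator_mono inf_le_left le_rfl) (le_inf (inf_le_left.trans inf_le_left) ?_)
    refine le_trans (inf_le_inf_right _ inf_le_right) (le_map_pPrimeCore inf_le_right ?_
      (coprime_core e inf_le_left))
    exact (le_inf ((centralizer_le (Set.singleton_subset_iff.2 he)).trans
      (le_normalizer_map_pPrimeCore _)) Subgroup.le_normalizer).trans inf_normalizer_le_normalizer_inf

/-- The value at a product. -/
theorem th_mul {a e : G} (ha : a ∈ A₁) (ha1 : a ≠ 1) (he : e ∈ A₂) (he1 : e ≠ 1) :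
    th A₁ A₂ (a * e) = thp a e := by
  have hasup : a ∈ A₁ ⊔ A₂ := mem_sup_left ha
  have hsup : a * e ∈ A₁ ⊔ A₂ := mul_mem hasup (mem_sup_right he)
  have hne : a * e ≠ 1 := fun h => ha1 (M.toPair.eq_one (F.le₁ ha)
    ((eq_inv_of_mul_eq_one_left h) ▸ inv_mem (F.le₂ he)))
  rw [thp, ← th_left M F ha ha1 he he1]
  refine le_antisymm ?_ (sup_le (le_inf ?_ ?_) (balance M F hasup ha1 hsup hne))
  · conv_lhs => rw [← CfsgLib.Coprime.commutator_sup_centralizer
      (zpowers_le_normalizer_th M F hsup hasup) (coprime_two_core M F (sq₁ F ha) (th_le_Oc M F hsup))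
      (Or.inl inferInstance)]
    refine sup_le_sup (commutator_mono (th_le_Oc M F hsup) le_rfl) (fun x hx => ?_)
    refine mem_inf.2 ⟨balance M F hsup hne hasup ha1 (mem_inf.2 ⟨(mem_inf.1 hx).1, ?_⟩),
      Oc_le (th_le_Oc M F hsup (mem_inf.1 hx).1)⟩
    exact mem_centralizer_singleton_iff.2
      (mem_centralizer_iff.1 (mem_inf.1 hx).2 a (mem_zpowers a)).symm
  · exact (commutator_mono le_rfl (zpowers_le.2 ha)).trans le_sup_left
  · refine le_trans (commutator_le.2 fun x hx d hd => ?_) (le_sup_left (a := ⁅Oc (a * e), A₂⁆))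
    rcases zpowers_cases (sq₁ F ha) hd with rfl | rfl
    · simp
    · have hxy : x * (d * e) = d * e * x :=
        mem_centralizer_singleton_iff.1 (Oc_le hx)
      have hed : d * e = e * d := F.comm M.toPair d ha e he
      have heq : ⁅x, d⁆ = ⁅x, e⁆ := by
        have hd' : d⁻¹ = d := inv_eq_of_mul_eq_one_right (sq₁ F ha)
        have he' : e⁻¹ = e := inv_eq_of_mul_eq_one_right (sq₂ F he)
        rw [commutatorElement_def, commutatorElement_def, hd', he']
        have h1 : d * x⁻¹ * d = e * x⁻¹ * e := by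
          have h2 : (d * e) * x⁻¹ = x⁻¹ * (d * e) := by
            calc (d * e) * x⁻¹ = x⁻¹ * (x * (d * e)) * x⁻¹ := by group
              _ = x⁻¹ * (d * e * x) * x⁻¹ := by rw [hxy]
              _ = x⁻¹ * (d * e) := by group
          calc d * x⁻¹ * d = d * x⁻¹ * (d * e) * e := by
                rw [mul_assoc (d * x⁻¹), mul_assoc d e e, sq₂ F he, mul_one]
            _ = d * ((d * e) * x⁻¹) * e := by rw [h2]; group
            _ = (d * d) * e * x⁻¹ * e := by group
            _ = e * x⁻¹ * e := by rw [sq₁ F ha, one_mul]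
        calc x * d * x⁻¹ * d = x * (d * x⁻¹ * d) := by group
          _ = x * (e * x⁻¹ * e) := by rw [h1]
          _ = x * e * x⁻¹ * e := by group
      rw [heq]
      exact commutator_mem_commutator hx he

/-- The whole signalizer. -/
theorem exists_W : ∃ W : Subgroup G, Odd (Nat.card W) ∧
    A₁ ⊔ A₂ ≤ normalizer (W : Set G) ∧
    (∀ y ∈ A₁ ⊔ A₂, y ≠ 1 → th A₁ A₂ y = W ⊓ centralizer ({y} : Set G)) ∧
    (∀ a ∈ A₁, a ≠ 1 → ∀ e ∈ A₂, e ≠ 1 → W = Wf a e) := by
  set A := A₁ ⊔ A₂ with hA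
  haveI : IsMulCommutative A :=
    ⟨⟨fun x y => Subtype.ext ((data M F).comm x x.2 y y.2)⟩⟩
  have hcop : ∀ K : Subgroup G, Odd (Nat.card K) → (Nat.card A).Coprime (Nat.card K) := by
    intro K hK
    obtain ⟨n, hn⟩ := IsPGroup.iff_card.1
      (P.2.to_le (sup_le (F.le₁.trans M.sc₁.1) (F.le₂.trans M.sc₂.1)))
    rw [hA, hn]
    exact (Nat.coprime_two_left.2 hK).pow_left n
  have gen : ∀ {K R : Subgroup G}, Odd (Nat.card K) → A ≤ normalizer (K : Set G) →
      ∀ {x y : G}, x ∈ A → y ∈ A → K ⊓ centralizer ({x} : Set G) ≤ R →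
        K ⊓ centralizer ({y} : Set G) ≤ R → K ⊓ centralizer ({x * y} : Set G) ≤ R → K ≤ R := by
    intro K R hK hn x y hx hy h1 h2 h3
    refine CfsgLib.Coprime.le_of_centralizer_le Nat.prime_two hn (hcop K hK)
      (Nat.coprime_two_right.2 hK) hx hy
      (by rw [pow_two, (data M F).sq x hx]; exact one_mem _)
      (by rw [pow_two, (data M F).sq y hy]; exact one_mem _) h2 fun i hi => ?_
    interval_cases i
    · simpa using h1
    · simpa using h3
  -- a subgroup of order eight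
  obtain ⟨e₀, he₀, he₀1⟩ := (bot_or_exists_ne_one A₂).resolve_left fun h => by
    have := F.card₂; rw [h, Subgroup.card_bot] at this; omega
  obtain ⟨a₀, ha₀, ha₀1⟩ := (bot_or_exists_ne_one A₁).resolve_left fun h => by
    have := F.card₁; rw [h, Subgroup.card_bot] at this; omega
  set B := A₁ ⊔ zpowers e₀ with hB
  have hBA : B ≤ A := sup_le le_sup_left ((zpowers_le.2 he₀).trans le_sup_right)
  have hBc : Nat.card B = 8 := by
    rw [hB, CfsgLib.Coprime.card_sup_of_inf_eq_bot (fun x hx => centralizer_le_normalizer _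
      (mem_centralizer_iff.2 fun z hz => ((F.comm M.toPair x hx z
        ((zpowers_le.2 he₀) hz)).symm)))
      (le_bot_iff.1 ((inf_le_inf_left _ (zpowers_le.2 he₀)).trans (F.inf_eq_bot M.toPair).le)),
      F.card₁, Nat.card_zpowers, orderOf_two (sq₂ F he₀) he₀1]
  have hsf := sf M F
  have S : CfsgLib.Signalizer2.Setup B (th A₁ A₂) := by
    refine ⟨⟨⟨⟨fun x y => Subtype.ext ((data M F).comm x (hBA x.2) y (hBA y.2))⟩⟩,
      fun x hx => by rw [pow_two]; exact (data M F).sq x (hBA hx)⟩, hBc, ?_⟩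
    exact ⟨fun a ha => hsf.1 a (hBA ha), fun a ha => hsf.2.1 a (hBA ha),
      fun a ha ha1 b hb => hsf.2.2.1 a (hBA ha) ha1 b (hBA hb),
      fun a ha ha1 b hb hb1 => hsf.2.2.2 a (hBA ha) ha1 b (hBA hb) hb1⟩
  obtain ⟨X, hX, hXle⟩ := CfsgLib.Signalizer2.complete S
  have hXodd : Odd (Nat.card X) := S.mem_odd hX
  -- `X` is generated by three values
  have hab1 : ∀ {a e : G}, a ∈ A₁ → a ≠ 1 → e ∈ A₂ → a * e ≠ 1 := fun ha ha1 he h => ha1
    (M.toPair.eq_one (F.le₁ ha) ((eq_inv_of_mul_eq_one_left h) ▸ inv_mem (F.le₂ he)))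
  have pa : CfsgLib.Signalizer2.Pt B a₀ := ⟨mem_sup_left ha₀, ha₀1⟩
  have pe : CfsgLib.Signalizer2.Pt B e₀ := ⟨mem_sup_right (mem_zpowers e₀), he₀1⟩
  have hne : a₀ ≠ e₀ := fun h => ha₀1 (M.toPair.eq_one (F.le₁ ha₀) (h ▸ F.le₂ he₀))
  have hXeq : X = th A₁ A₂ a₀ ⊔ th A₁ A₂ e₀ ⊔ th A₁ A₂ (a₀ * e₀) :=
    le_antisymm (S.mem_gen3 hX pa pe hne (le_sup_left.trans le_sup_left)
      (le_sup_right.trans le_sup_left) le_sup_right)
      (sup_le (sup_le (hXle _ pa) (hXle _ pe)) (hXle _ (S.mul_mem_pt pa pe hne)))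
  have hXn : A ≤ normalizer (X : Set G) := by
    rw [hXeq]
    exact CfsgLib.Coprime.le_normalizer_sup_sup (CfsgLib.Coprime.le_normalizer_sup_sup
      (sup_le_normalizer_th M F (mem_sup_left ha₀)) (sup_le_normalizer_th M F (mem_sup_right he₀)))
      (sup_le_normalizer_th M F (mul_mem (mem_sup_left ha₀) (mem_sup_right he₀)))
  have hNC : ∀ {y : G}, y ∈ A → A ≤ normalizer ((centralizer ({y} : Set G) : Subgroup G) : Set G) :=
    fun hy => (le_centralizer_elem (data M F) hy).trans Subgroup.le_normalizer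
  have hodd : ∀ {y : G}, y ∈ A → Odd (Nat.card (th A₁ A₂ y)) := fun hy =>
    Nat.coprime_two_right.1 (coprime_core _ (th_le_Oc M F hy))
  have hfix : ∀ y ∈ A, y ≠ 1 → th A₁ A₂ y = X ⊓ centralizer ({y} : Set G) := by
    intro y hy hy1
    refine le_antisymm (le_inf ?_ (hsf.1 y hy hy1)) ?_
    · refine gen (hodd hy) (sup_le_normalizer_th M F hy) (hBA pa.1) (hBA pe.1) ?_ ?_ ?_
      · exact (balance M F hy hy1 (hBA pa.1) ha₀1).trans (hXle _ pa)
      · exact (balance M F hy hy1 (hBA pe.1) he₀1).trans (hXle _ pe)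
      · exact (balance M F hy hy1 (hBA (S.mul_mem_pt pa pe hne).1)
          (hab1 ha₀ ha₀1 he₀)).trans (hXle _ (S.mul_mem_pt pa pe hne))
    · have hK : A ≤ normalizer ((X ⊓ centralizer ({y} : Set G) : Subgroup G) : Set G) :=
        (le_inf hXn (hNC hy)).trans inf_normalizer_le_normalizer_inf
      have hKo : Odd (Nat.card (X ⊓ centralizer ({y} : Set G) : Subgroup G)) :=
        hXodd.of_dvd_nat (card_dvd_of_le inf_le_left)
      have step : ∀ x, CfsgLib.Signalizer2.Pt B x →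
          X ⊓ centralizer ({y} : Set G) ⊓ centralizer ({x} : Set G) ≤ th A₁ A₂ y := by
        intro x hx z hz
        exact balance M F (hBA hx.1) hx.2 hy hy1
          (mem_inf.2 ⟨S.mem_fix hX hx (mem_inf.2 ⟨(mem_inf.1 (mem_inf.1 hz).1).1, (mem_inf.1 hz).2⟩),
            (mem_inf.1 (mem_inf.1 hz).1).2⟩)
      exact gen hKo hK (hBA pa.1) (hBA pe.1) (step _ pa) (step _ pe) (step _ (S.mul_mem_pt pa pe hne))
  refine ⟨X, hXodd, hXn, hfix, fun a ha ha1 e he he1 => ?_⟩
  have h1 := th_left M F ha ha1 he he1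
  have h2 : th A₁ A₂ e = ths e a := by
    rw [th_symm]
    exact th_left M.symm F.symm he he1 ha ha1
  have h3 := th_mul M F ha ha1 he he1
  have f1 := hfix a (mem_sup_left ha) ha1
  have f2 := hfix e (mem_sup_right he) he1
  have f3 := hfix (a * e) (mul_mem (mem_sup_left ha) (mem_sup_right he)) (hab1 ha ha1 he)
  rw [Wf, ← h1, ← h2, ← h3]
  refine le_antisymm (gen hXodd hXn (mem_sup_left ha) (mem_sup_right he)
    (f1.ge.trans (le_sup_left.trans le_sup_left)) (f2.ge.trans (le_sup_right.trans le_sup_left))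
    (f3.ge.trans le_sup_right)) ?_
  rw [f1, f2, f3]
  exact sup_le (sup_le inf_le_left inf_le_left) inf_le_left

end CfsgLib.StrongClosedPair
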