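import Cfsg.Agent.Lib.StrongClosedPair.Endgame
import Cfsg.Agent.Lib.Transfer.NormalPComplement

/-!
# The product fusion theorem
-/

set_option autoImplicit false
set_option linter.style.haveILetI false
set_option linter.unusedSectionVars false

open scoped Pointwise commutatorElement

namespace CfsgLib.StrongClosedPair

open Cfsg Subgroup

universe u

variable {G : Type u} [Group G] [Finite G] {P : Sylow 2 G} {S₁ S₂ : Subgroup G}

theorem commutator_eq_bot_of_commute (_h : Pair P S₁ S₂)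
    (hc : ∀ x ∈ S₁, ∀ g : G, ∀ y ∈ S₂, g * x * g⁻¹ * y = y * (g * x * g⁻¹)) :
    ⁅normalClosure (S₁ : Set G), normalClosure (S₂ : Set G)⁆ = ⊥ := by
  rw [commutator_comm, commutator_eq_bot_iff_le_centralizer]
  exact closure_le_centralizer hc

/-- First reduction: `G = N₁ P`. -/
theorem eq_top_of_ne_bot (ih : IH G) (hO : oddCore G = ⊥) (h : Pair P S₁ S₂)
    (hne : ⁅normalClosure (S₁ : Set G), normalClosure (S₂ : Set G)⁆ ≠ ⊥) :
    normalClosure (S₁ : Set G) ⊔ (P : Subgroup G) = ⊤ := by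
  by_contra hN
  exact hne (commutator_eq_bot_of_commute h fun x hx g y hy =>
    h.le_centralizer_closure ih hO _ hN hx (subset_normalClosure hx) g hy)

theorem zpowers_normal_of_center {a : G} (ha : a ∈ center G) : (zpowers a).Normal :=
  ⟨fun x hx g => by
    rwa [mem_center_iff.1 ((zpowers_le.2 ha) hx) g, mul_inv_cancel_right]⟩

/-- Second reduction: no involution of `S₁` is central. -/
theorem eq_one_of_center (ih : IH G) (hO : oddCore G = ⊥) (h : Pair P S₁ S₂)
    (hne : ⁅normalClosure (S₁ : Set G), normalClosure (S₂ : Set G)⁆ ≠ ⊥) :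
    ∀ a ∈ S₁, a * a = 1 → a ∈ center G → a = 1 := by
  intro a ha ha2 hac
  by_contra ha1
  haveI := zpowers_normal_of_center hac
  have hcard : Nat.card (zpowers a) = 2 := by
    rw [Nat.card_zpowers]; exact orderOf_two ha2 ha1
  have haP : zpowers a ≤ S₁ := zpowers_le.2 ha
  have hquot : oddCore (G ⧸ zpowers a) = ⊥ := by
    set φ := QuotientGroup.mk' (zpowers a)
    set K := (oddCore (G ⧸ zpowers a)).comap φ with hK
    rw [eq_bot_iff]
    intro q hq
    obtain ⟨x, rfl⟩ := QuotientGroup.mk'_surjective _ q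
    by_contra hx
    -- the 2'-part of an element of `K` lies in a normal odd subgroup of `K`
    have hKc : Nat.card K = 2 * Nat.card (oddCore (G ⧸ zpowers a)) := by
      rw [hK, CfsgLib.Base.card_comap_mk', hcard]
    have hodd := CfsgLib.Base.odd_card_oddCore (G ⧸ zpowers a)
    obtain ⟨R, hR⟩ := (IsPGroup.of_card (p := 2) (n := 1)
      (show Nat.card ((zpowers a).subgroupOf K) = 2 ^ 1 by
        rw [CfsgLib.Base.card_subgroupOf (show zpowers a ≤ K from fun y hy => by
          rw [hK, mem_comap, show φ y = 1 from (QuotientGroup.eq_one_iff y).2 hy]; exact one_mem _),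
          hcard, pow_one])).exists_le_sylow
    have hRc : Nat.card R = 2 := by
      rw [Sylow.card_eq_multiplicity, hKc, Nat.factorization_mul (by norm_num)
        Nat.card_pos.ne', Finsupp.add_apply, Nat.Prime.factorization_self Nat.prime_two,
        Nat.factorization_eq_zero_of_not_dvd hodd.not_two_dvd_nat, add_zero, pow_one]
    have hRa : (R : Subgroup K) = (zpowers a).subgroupOf K :=
      (Subgroup.eq_of_le_of_card_ge hR (by
        rw [hRc, CfsgLib.Base.card_subgroupOf (show zpowers a ≤ K from fun y hy => by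
          rw [hK, mem_comap, show φ y = 1 from (QuotientGroup.eq_one_iff y).2 hy]; exact one_mem _),
          hcard])).symm
    have hRcen : Subgroup.normalizer ((R : Subgroup K) : Set K) ≤
        Subgroup.centralizer ((R : Subgroup K) : Set K) := fun k _ => by
      rw [mem_centralizer_iff]
      intro r hr
      rw [SetLike.mem_coe, hRa, mem_subgroupOf] at hr
      exact Subtype.ext (mem_center_iff.1 ((zpowers_le.2 hac) hr) k).symm
    have hnc := CfsgLib.Transfer.hasNormalPComplement_of_normalizer_le_centralizer R hRcen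
    obtain ⟨T, L, hLn, hTL⟩ := hnc
    haveI := hLn
    have hLodd : Odd (Nat.card L) := by
      have h2 := T.not_dvd_index
      rw [hTL.index_eq_card] at h2
      exact Nat.odd_iff.2 (Nat.two_dvd_ne_zero.1 h2)
    have hLcore : L ≤ oddCore ↥K := CfsgLib.Base.le_oddCore hLodd
    haveI hKn : K.Normal := (pPrimeCore_normal 2 (G ⧸ zpowers a)).comap φ
    have hcoreK : (oddCore ↥K).map K.subtype ≤ oddCore G :=
      CfsgLib.Base.map_pPrimeCore_le_of_isSubnormal hKn.isSubnormal
    rw [hO, le_bot_iff, map_eq_bot_iff_of_injective _ K.subtype_injective] at hcoreK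
    rw [hcoreK, le_bot_iff] at hLcore
    have hTtop : (T : Subgroup K) = ⊤ := by
      apply eq_top_of_card_eq
      rw [← hTL.card_mul_card, hLcore, Subgroup.card_bot, one_mul]
    have hT2 : Nat.card K = 2 := by
      rw [← Subgroup.card_top (G := K), ← hTtop, Nat.card_congr (T.equiv R).toEquiv, hRc]
    rw [hKc] at hT2
    have hcore1 : Nat.card (oddCore (G ⧸ zpowers a)) = 1 := by omega
    rw [Subgroup.card_eq_one.1 hcore1, mem_bot] at hq
    exact hx (mem_bot.2 hq)
  have hle := h.quotient_commutator (zpowers a) (inf_le_left.trans haP)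
    (ih _ (by
      rw [← CfsgLib.Base.card_mul_card_quotient (zpowers a), hcard]
      have : 0 < Nat.card (G ⧸ zpowers a) := Nat.card_pos
      omega))
  rw [hquot, MonoidHom.comap_bot, QuotientGroup.ker_mk'] at hle
  have hgen : normalClosure (S₂ : Set G) ⊔ (P : Subgroup G) = ⊤ :=
    eq_top_of_ne_bot ih hO h.symm (by rwa [commutator_comm])
  refine hne (commutator_eq_bot_of_commute h fun x hx g y hy => ?_)
  obtain ⟨n, hn, p, hp, rfl⟩ := mem_sup_of_normal_left.1 (hgen ▸ mem_top g)
  set s := p * x * p⁻¹ with hs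
  have hsS : s ∈ S₁ := conj_mem_of_mem_P h.sc₁ hx hp
  have e : n * p * x * (n * p)⁻¹ = ⁅n, s⁆ * s := by rw [hs, commutatorElement_def]; group
  have hns : ⁅n, s⁆ ∈ center G := by
    refine (zpowers_le.2 hac) (hle ?_)
    rw [commutator_comm]
    exact commutator_mem_commutator hn (subset_normalClosure hsS)
  rw [e, mul_assoc, h.comm s hsS y hy, ← mul_assoc, ← mem_center_iff.1 hns y, mul_assoc]

/-- Third reduction: `N₁ = G`. -/
theorem normalClosure_eq_top (ih : IH G) (hO : oddCore G = ⊥) (h : Pair P S₁ S₂) (hne2 : S₂ ≠ ⊥)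
    (hne : ⁅normalClosure (S₁ : Set G), normalClosure (S₂ : Set G)⁆ ≠ ⊥) :
    normalClosure (S₁ : Set G) = ⊤ := by
  by_contra hN
  set N := normalClosure (S₁ : Set G) with hNdef
  have hgen : N ⊔ (P : Subgroup G) = ⊤ := eq_top_of_ne_bot ih hO h hne
  have hnc := eq_one_of_center ih hO h.symm (by rwa [commutator_comm])
  have hS1N : S₁ ≤ N := le_normalClosure
  obtain ⟨M₁, M₂, hn1, hn2, hM, hR1, hR2⟩ := h.exists_local ih hN
    (R := (P : Subgroup G) ⊓ N) (P.2.to_le inf_le_left) inf_le_right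
  haveI := hn1
  have htop : N ≤ M₁.map N.subtype := by
    have hsub : Group.conjugatesOfSet (S₁ : Set G) ⊆ (M₁.map N.subtype : Subgroup G) := by
      intro z hz
      obtain ⟨x, hx, hxz⟩ := Group.mem_conjugatesOfSet_iff.1 hz
      obtain ⟨g, rfl⟩ := isConj_iff.1 hxz
      obtain ⟨n, hn, s, hs, e⟩ := exists_normal_conj h.sc₁ N hx (hS1N hx) g
      rw [e]
      exact ⟨⟨n, hn⟩ * ⟨s, (mem_inf.1 hs).2⟩ * ⟨n, hn⟩⁻¹, hn1.conj_mem _
        (hR1 (mem_subgroupOf.2 (mem_inf.2 ⟨(mem_inf.1 hs).1, h.sc₁.1 (mem_inf.1 hs).1,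
          (mem_inf.1 hs).2⟩))) _, rfl⟩
    exact (closure_le _).2 hsub
  -- `N` centralises `S₂ ∩ N`
  have hcen : ∀ y ∈ S₂, y ∈ N → ∀ n ∈ N, n * y = y * n := by
    intro y hy hyN n hn
    obtain ⟨m, hm, hmn⟩ := htop hn
    have hyM : (⟨y, hyN⟩ : N) ∈ M₂ :=
      hR2 (mem_subgroupOf.2 (mem_inf.2 ⟨hy, h.sc₂.1 hy, hyN⟩))
    have h1 := eq_one_of_mem_core_inf hO (le_refl N) (hM (commutator_mem_commutator hm hyM))
      (⁅m, (⟨y, hyN⟩ : N)⁆).2
    have h2 := congrArg Subtype.val (commutatorElement_eq_one_iff_mul_comm.1 h1)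
    push_cast at h2
    rw [← hmn]
    exact h2
  have hcentral : ∀ z ∈ S₂, (∀ p ∈ (P : Subgroup G), p * z = z * p) →
      (∀ n ∈ N, n * z = z * n) → z ∈ center G := by
    intro z _ hzP hzN
    refine mem_center_iff.2 fun g => ?_
    obtain ⟨n, hn, p, hp, rfl⟩ := mem_sup_of_normal_left.1 (hgen ▸ mem_top g)
    rw [mul_assoc, hzP p hp, ← mul_assoc, hzN n hn, mul_assoc]
  by_cases hT : S₂ ⊓ N = ⊥
  · obtain ⟨b, hb, hbo, hbc⟩ := exists_central_involution P hne2 h.sc₂.1
      (CfsgLib.Transfer.stronglyClosed_le_normalizer h.sc₂)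
    refine ne_one_of_orderOf hbo (hnc b hb (sq_of_orderOf hbo) (mem_center_of_fixed hO hbo
      (h.sc₂.1 hb) fun g hg => ?_))
    have hgS : g * b * g⁻¹ ∈ S₂ := h.sc₂.2 b hb g hg
    obtain ⟨n, hn, p, hp, rfl⟩ := mem_sup_of_normal_left.1 (hgen ▸ mem_top g)
    have e : n * p * b * (n * p)⁻¹ = n * b * n⁻¹ := by
      rw [mul_assoc n p b, hbc p hp]; group
    rw [e] at hgS ⊢
    have h1 : b⁻¹ * (n * b * n⁻¹) ∈ S₂ ⊓ N := mem_inf.2 ⟨mul_mem (inv_mem hb) hgS, by
      rw [show b⁻¹ * (n * b * n⁻¹) = (b⁻¹ * n * b⁻¹⁻¹) * n⁻¹ by group]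
      exact mul_mem (Normal.conj_mem inferInstance n hn _) (inv_mem hn)⟩
    rw [hT, mem_bot, inv_mul_eq_one] at h1
    exact h1.symm
  · obtain ⟨z, hz, hzo, hzc⟩ := exists_central_involution P hT (inf_le_left.trans h.sc₂.1)
      ((le_inf (CfsgLib.Transfer.stronglyClosed_le_normalizer h.sc₂)
        (fun p _ => le_normalizer_of_normal (mem_top p))).trans inf_normalizer_le_normalizer_inf)
    exact ne_one_of_orderOf hzo (hnc z (mem_inf.1 hz).1 (sq_of_orderOf hzo)
      (hcentral z (mem_inf.1 hz).1 hzc (hcen z (mem_inf.1 hz).1 (mem_inf.1 hz).2)))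

theorem commutator_eq_bot_of_ih (ih : IH G) (hO : oddCore G = ⊥) (h : Pair P S₁ S₂) :
    ⁅normalClosure (S₁ : Set G), normalClosure (S₂ : Set G)⁆ = ⊥ := by
  by_contra hne
  have hne' : ⁅normalClosure (S₂ : Set G), normalClosure (S₁ : Set G)⁆ ≠ ⊥ := by
    rwa [commutator_comm]
  have hb : ∀ {S T : Subgroup G}, ⁅normalClosure (S : Set G), normalClosure (T : Set G)⁆ ≠ ⊥ →
      S ≠ ⊥ := by
    intro S T hST hS
    refine hST (le_bot_iff.1 ((commutator_mono ?_ le_rfl).trans (commutator_bot_left _).le))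
    refine normalClosure_le_normal (N := (⊥ : Subgroup G)) ?_
    rw [hS]
  exact ({ toPair := h
           ih := ih
           core := hO
           ne₁ := hb hne
           ne₂ := hb hne'
           gen₁ := normalClosure_eq_top ih hO h (hb hne') hne
           gen₂ := normalClosure_eq_top ih hO h.symm (hb hne) hne'
           nc₁ := eq_one_of_center ih hO h hne
           nc₂ := eq_one_of_center ih hO h.symm hne' } : Min P S₁ S₂).false

/-- **Product fusion**: the normal closures of two commuting, disjoint, strongly closed 2-subgroups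
commute modulo the odd core. -/
theorem thm (G : Type u) [Group G] [Finite G] : Thm G := by
  suffices key : ∀ n, ∀ (G : Type u) [Group G] [Finite G], Nat.card G = n → Thm G from key _ G rfl
  intro n
  induction n using Nat.strong_induction_on with
  | _ n ihn =>
  intro G _ _ hn P S₁ S₂ h
  have ih : IH G := fun H _ _ hlt => ihn _ (hn ▸ hlt) H rfl
  rcases eq_or_ne (oddCore G) ⊥ with hO | hO
  · rw [commutator_eq_bot_of_ih ih hO h]
    exact bot_le
  · haveI : (oddCore G).Normal := pPrimeCore_normal 2 G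
    have hNP : oddCore G ⊓ (P : Subgroup G) = ⊥ := by
      rw [inf_comm]
      exact CfsgLib.Base.inf_eq_bot_of_isPGroup_of_coprime P.2
        (CfsgLib.Base.pPrimeCore_coprime 2 G)
    have hle := h.quotient_commutator (oddCore G) (hNP.le.trans bot_le) (ih _ (by
      rw [← CfsgLib.Base.card_mul_card_quotient (oddCore G)]
      have h1 : 1 < Nat.card (oddCore G) := Subgroup.one_lt_card_iff_ne_bot _ |>.2 hO
      have h2 : 0 < Nat.card (G ⧸ oddCore G) := Nat.card_pos
      nlinarith))
    rwa [show oddCore (G ⧸ oddCore G) = ⊥ from CfsgLib.Base.pPrimeCore_quotient_pPrimeCore 2 G, MonoidHom.comap_bot, QuotientGroup.ker_mk'] at hle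

theorem commutator_le_oddCore (P : Sylow 2 G) {S₁ S₂ : Subgroup G}
    (hc : ∀ a ∈ S₁, ∀ b ∈ S₂, a * b = b * a) (hd : S₁ ⊓ S₂ = ⊥)
    (h₁ : IsStronglyClosed S₁ (P : Subgroup G)) (h₂ : IsStronglyClosed S₂ (P : Subgroup G)) :
    ⁅normalClosure (S₁ : Set G), normalClosure (S₂ : Set G)⁆ ≤ oddCore G :=
  thm G P S₁ S₂ ⟨hc, hd, h₁, h₂⟩

end CfsgLib.StrongClosedPair
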