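import Cfsg.Agent.Lib.StrongClosedPair.Fours
import Cfsg.Agent.Lib.Components.LocalBalanceCenter

/-!
# The intrinsic signalizer of pairs of involutions, and pairs of conjugates
-/

set_option autoImplicit false
set_option linter.style.haveILetI false
set_option linter.unusedSectionVars false

open scoped Pointwise commutatorElement

namespace CfsgLib.StrongClosedPair

open Cfsg Subgroup CfsgLib.CoreSep CfsgLib.Components

universe u

variable {G : Type u} [Group G] [Finite G] {P : Sylow 2 G} {S₁ S₂ : Subgroup G}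

theorem map_conj_Oc (g y : G) :
    (Oc y).map (MulAut.conj g).toMonoidHom = Oc (g * y * g⁻¹) := by
  refine le_antisymm (map_centralizerPPrimeCore_le (MulAut.conj g) y) fun x hx => ?_
  have h := map_centralizerPPrimeCore_le (MulAut.conj g⁻¹) (g * y * g⁻¹)
    (mem_map_of_mem (MulAut.conj g⁻¹).toMonoidHom hx)
  have e : MulAut.conj g⁻¹ (g * y * g⁻¹) = y := by rw [MulAut.conj_apply]; group
  rw [e, MulEquiv.coe_toMonoidHom, MulAut.conj_apply] at h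
  refine ⟨_, h, ?_⟩
  rw [MulEquiv.coe_toMonoidHom, MulAut.conj_apply]
  group

theorem map_conj_centralizer (g y : G) :
    (centralizer ({y} : Set G)).map (MulAut.conj g).toMonoidHom =
      centralizer ({g * y * g⁻¹} : Set G) := by
  ext x
  constructor
  · rintro ⟨c, hc, rfl⟩
    rw [mem_centralizer_singleton_iff, MulEquiv.coe_toMonoidHom, MulAut.conj_apply]
    calc g * c * g⁻¹ * (g * y * g⁻¹) = g * (c * y) * g⁻¹ := by group
      _ = g * (y * c) * g⁻¹ := by rw [mem_centralizer_singleton_iff.1 hc]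
      _ = g * y * g⁻¹ * (g * c * g⁻¹) := by group
  · intro hx
    refine ⟨g⁻¹ * x * g, mem_centralizer_singleton_iff.2 ?_, ?_⟩
    · calc g⁻¹ * x * g * y = g⁻¹ * (x * (g * y * g⁻¹)) * g := by group
        _ = g⁻¹ * (g * y * g⁻¹ * x) * g := by rw [mem_centralizer_singleton_iff.1 hx]
        _ = y * (g⁻¹ * x * g) := by group
    · rw [MulEquiv.coe_toMonoidHom, MulAut.conj_apply]
      group

theorem map_conj_Wf (g a e : G) :
    (Wf a e).map (MulAut.conj g).toMonoidHom = Wf (g * a * g⁻¹) (g * e * g⁻¹) := by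
  have hz : ∀ x : G, (zpowers x).map (MulAut.conj g).toMonoidHom = zpowers (g * x * g⁻¹) :=
    fun x => by rw [MonoidHom.map_zpowers, MulEquiv.coe_toMonoidHom, MulAut.conj_apply]
  have hi : ∀ H K : Subgroup G, (H ⊓ K).map (MulAut.conj g).toMonoidHom =
      H.map (MulAut.conj g).toMonoidHom ⊓ K.map (MulAut.conj g).toMonoidHom :=
    fun H K => map_inf H K _ (MulAut.conj g).injective
  have hs : ∀ a e : G, (ths a e).map (MulAut.conj g).toMonoidHom =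
      ths (g * a * g⁻¹) (g * e * g⁻¹) := fun a e => by
    rw [ths, ths, Subgroup.map_sup, map_commutator, hi, hz, map_conj_Oc, map_conj_Oc]
  rw [Wf, Wf, Subgroup.map_sup, Subgroup.map_sup, hs, hs, thp, thp, Subgroup.map_sup,
    map_commutator, hi, hz, hs, map_conj_Oc, map_conj_centralizer,
    show g * a * g⁻¹ * (g * e * g⁻¹) = g * (a * e) * g⁻¹ by group]

/-- Two involutions in a strongly closed subgroup. -/
theorem Min.exists_other (M : Min P S₁ S₂) {z : G} (hz : z ∈ S₁) (hzo : orderOf z = 2) :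
    ∃ t ∈ S₁, orderOf t = 2 ∧ t ≠ z := by
  by_contra hne
  push Not at hne
  have h1 : z ≠ 1 := fun h => by simp [h] at hzo
  refine h1 (M.nc₁ z hz (by rw [← pow_two, ← hzo, pow_orderOf_eq_one]) ?_)
  refine mem_center_of_fixed M.core hzo (M.sc₁.1 hz) fun g hg => ?_
  refine hne _ (M.sc₁.2 z hz g hg) ?_
  rw [← hzo]
  exact orderOf_injective (MulAut.conj g).toMonoidHom (MulAut.conj g).injective z

/-- The four group generated by two commuting involutions. -/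
theorem four_data {S : Subgroup G} {z t : G} (hz : z ∈ S) (ht : t ∈ S) (hzo : orderOf z = 2)
    (hto : orderOf t = 2) (hne : t ≠ z) (hcomm : t * z = z * t) :
    zpowers z ⊔ zpowers t ≤ S ∧ Nat.card (zpowers z ⊔ zpowers t : Subgroup G) = 4 ∧
      IsElementaryAbelian 2 (zpowers z ⊔ zpowers t : Subgroup G) := by
  have z2 : z * z = 1 := by rw [← pow_two, ← hzo, pow_orderOf_eq_one]
  have t2 : t * t = 1 := by rw [← pow_two, ← hto, pow_orderOf_eq_one]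
  have hn : zpowers z ≤ normalizer (zpowers t : Set G) := (zpowers_le.2
    (mem_centralizer_iff.2 fun x hx => by
      obtain ⟨k, rfl⟩ := mem_zpowers_iff.1 hx
      exact ((show Commute t z from hcomm).zpow_left k).eq)).trans (centralizer_le_normalizer _)
  refine ⟨sup_le (zpowers_le.2 hz) (zpowers_le.2 ht), ?_, ?_⟩
  · rw [CfsgLib.Coprime.card_sup_of_inf_eq_bot hn ?_, Nat.card_zpowers, Nat.card_zpowers, hzo, hto]
    rw [eq_bot_iff]
    intro x hx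
    rcases zpowers_cases z2 (mem_inf.1 hx).1 with rfl | rfl
    · exact one_mem _
    · rcases zpowers_cases t2 (mem_inf.1 hx).2 with h | h
      · rw [h]; exact one_mem _
      · exact absurd h.symm hne
  · have hel : ∀ x ∈ zpowers z ⊔ zpowers t, x * x = 1 ∧ x * z = z * x ∧ x * t = t * x := by
      intro x hx
      rw [← SetLike.mem_coe, coe_mul_of_left_le_normalizer_right (zpowers z) (zpowers t) hn] at hx
      obtain ⟨u, hu, v, hv, rfl⟩ := Set.mem_mul.1 hx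
      rcases zpowers_cases z2 hu with rfl | rfl <;> rcases zpowers_cases t2 hv with rfl | rfl
      · simp
      · exact ⟨by simpa using t2, by simpa using hcomm, by simp⟩
      · exact ⟨by simpa using z2, by simp, by simpa using hcomm.symm⟩
      · refine ⟨?_, by rw [mul_assoc, hcomm], by rw [← mul_assoc, hcomm]⟩
        calc u * v * (u * v) = u * (v * u) * v := by group
          _ = u * (u * v) * v := by rw [hcomm]
          _ = u * u * (v * v) := by group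
          _ = 1 := by rw [z2, t2, one_mul]
    refine ⟨⟨⟨fun x y => Subtype.ext ?_⟩⟩, fun x hx => by rw [pow_two]; exact (hel x hx).1⟩
    have h1 := (hel x x.2).1
    have h2 := (hel y y.2).1
    have h3 := (hel _ (mul_mem x.2 y.2)).1
    show (x : G) * y = y * x
    calc (x : G) * y = (x : G) * ((x : G) * y * (x * y)) * y := by rw [h3, mul_one]
      _ = ((x : G) * x) * (y * x) * (y * y) := by group
      _ = (y : G) * x := by rw [h1, h2, one_mul, mul_one]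

/-- Involutions of `S₁` and `S₂` central in `P`. -/
structure Base (P : Sylow 2 G) (S₁ S₂ : Subgroup G) (z₁ z₂ : G) : Prop where
  mem₁ : z₁ ∈ S₁
  mem₂ : z₂ ∈ S₂
  ord₁ : orderOf z₁ = 2
  ord₂ : orderOf z₂ = 2
  cen₁ : ∀ p ∈ (P : Subgroup G), p * z₁ = z₁ * p
  cen₂ : ∀ p ∈ (P : Subgroup G), p * z₂ = z₂ * p

theorem Min.exists_base (M : Min P S₁ S₂) : ∃ z₁ z₂, Base P S₁ S₂ z₁ z₂ := by
  obtain ⟨z₁, h1, o1, c1⟩ := exists_central_involution P M.ne₁ M.sc₁.1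
    (CfsgLib.Transfer.stronglyClosed_le_normalizer M.sc₁)
  obtain ⟨z₂, h2, o2, c2⟩ := exists_central_involution P M.ne₂ M.sc₂.1
    (CfsgLib.Transfer.stronglyClosed_le_normalizer M.sc₂)
  exact ⟨z₁, z₂, h1, h2, o1, o2, c1, c2⟩

theorem Min.exists_four (M : Min P S₁ S₂) {z a : G} (hz : z ∈ S₁) (hzo : orderOf z = 2)
    (hc : ∀ p ∈ (P : Subgroup G), p * z = z * p) (ha : a ∈ S₁) (hao : orderOf a = 2) :
    ∃ A : Subgroup G, A ≤ S₁ ∧ Nat.card A = 4 ∧ IsElementaryAbelian 2 A ∧ z ∈ A ∧ a ∈ A := by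
  obtain ⟨t, ht, hto, htz, hat⟩ : ∃ t ∈ S₁, orderOf t = 2 ∧ t ≠ z ∧ (a = z ∨ a = t) := by
    rcases eq_or_ne a z with rfl | hne
    · obtain ⟨t, h1, h2, h3⟩ := M.exists_other hz hzo
      exact ⟨t, h1, h2, h3, Or.inl rfl⟩
    · exact ⟨a, ha, hao, hne, Or.inr rfl⟩
  obtain ⟨h1, h2, h3⟩ := four_data hz ht hzo hto htz (hc t (M.sc₁.1 ht))
  refine ⟨_, h1, h2, h3, mem_sup_left (mem_zpowers z), ?_⟩
  rcases hat with rfl | rfl
  · exact mem_sup_left (mem_zpowers _)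
  · exact mem_sup_right (mem_zpowers _)

theorem ne_one_of_orderOf {x : G} (h : orderOf x = 2) : x ≠ 1 := fun e => by simp [e] at h

theorem sq_of_orderOf {x : G} (h : orderOf x = 2) : x * x = 1 := by
  rw [← pow_two, ← h, pow_orderOf_eq_one]

/-- All pairs of involutions have the same signalizer. -/
theorem Min.Wf_eq (M : Min P S₁ S₂) {z₁ z₂ : G} (B : Base P S₁ S₂ z₁ z₂) {a e : G}
    (ha : a ∈ S₁) (hao : orderOf a = 2) (he : e ∈ S₂) (heo : orderOf e = 2) :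
    Wf a e = Wf z₁ z₂ := by
  obtain ⟨A₁, l1, c1, e1, hz1, ha1⟩ := M.exists_four B.mem₁ B.ord₁ B.cen₁ ha hao
  obtain ⟨A₂, l2, c2, e2, hz2, he2⟩ := M.symm.exists_four B.mem₂ B.ord₂ B.cen₂ he heo
  obtain ⟨W, -, -, -, hW⟩ := exists_W M (⟨l1, l2, c1, c2, e1, e2⟩ : Fours S₁ S₂ A₁ A₂)
  rw [← hW a ha1 (ne_one_of_orderOf hao) e he2 (ne_one_of_orderOf heo),
    ← hW z₁ hz1 (ne_one_of_orderOf B.ord₁) z₂ hz2 (ne_one_of_orderOf B.ord₂)]

theorem Min.odd_Wf (M : Min P S₁ S₂) {z₁ z₂ : G} (B : Base P S₁ S₂ z₁ z₂) :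
    Odd (Nat.card (Wf z₁ z₂)) := by
  obtain ⟨A₁, l1, c1, e1, hz1, -⟩ := M.exists_four B.mem₁ B.ord₁ B.cen₁ B.mem₁ B.ord₁
  obtain ⟨A₂, l2, c2, e2, hz2, -⟩ := M.symm.exists_four B.mem₂ B.ord₂ B.cen₂ B.mem₂ B.ord₂
  obtain ⟨W, hodd, -, -, hW⟩ := exists_W M (⟨l1, l2, c1, c2, e1, e2⟩ : Fours S₁ S₂ A₁ A₂)
  rwa [← hW z₁ hz1 (ne_one_of_orderOf B.ord₁) z₂ hz2 (ne_one_of_orderOf B.ord₂)]

/-- The signalizer is generated by elements of the cores of the centralisers of involutions of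
`S₂`. -/
theorem Min.Wf_le (M : Min P S₁ S₂) {z₁ z₂ : G} (B : Base P S₁ S₂ z₁ z₂) {X : Subgroup G}
    (hX : ∀ e ∈ S₂, orderOf e = 2 → Oc e ≤ X) : Wf z₁ z₂ ≤ X := by
  obtain ⟨A₁, l1, c1, e1, hz1, -⟩ := M.exists_four B.mem₁ B.ord₁ B.cen₁ B.mem₁ B.ord₁
  obtain ⟨A₂, l2, c2, e2, hz2, -⟩ := M.symm.exists_four B.mem₂ B.ord₂ B.cen₂ B.mem₂ B.ord₂
  have F : Fours S₁ S₂ A₁ A₂ := ⟨l1, l2, c1, c2, e1, e2⟩
  obtain ⟨W, hodd, hn, hfix, hW⟩ := exists_W M F
  rw [← hW z₁ hz1 (ne_one_of_orderOf B.ord₁) z₂ hz2 (ne_one_of_orderOf B.ord₂)]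
  haveI := e2.1
  refine CfsgLib.Coprime.le_of_centralizer_le_of_not_isCyclic (A := A₂) ?_
    (le_sup_right.trans hn) (coprime_four c2 (Nat.coprime_two_right.2 hodd)) fun e he he1 => ?_
  · intro hcyc
    obtain ⟨g, hg⟩ := hcyc.exists_generator
    have h4 : Nat.card A₂ ∣ 2 := by
      rw [← orderOf_eq_card_of_forall_mem_zpowers hg]
      exact orderOf_dvd_of_pow_eq_one (Subtype.ext (e2.2 g g.2))
    rw [c2] at h4
    exact absurd (Nat.le_of_dvd two_pos h4) (by norm_num)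
  · exact (hfix e (mem_sup_right he) he1).ge.trans
      ((th_le_Oc M F (mem_sup_right he)).trans
        (hX e (l2 he) (orderOf_two (sq₂ F he) he1)))

/-- Elements moving a pair of involutions inside `S₁ × S₂` normalise the signalizer. -/
theorem Min.mem_normalizer_Wf (M : Min P S₁ S₂) {z₁ z₂ : G} (B : Base P S₁ S₂ z₁ z₂) {a e g : G}
    (ha : a ∈ S₁) (hao : orderOf a = 2) (he : e ∈ S₂) (heo : orderOf e = 2)
    (h1 : g * a * g⁻¹ ∈ S₁) (h2 : g * e * g⁻¹ ∈ S₂) :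
    g ∈ normalizer (Wf z₁ z₂ : Set G) := by
  have ho : ∀ x : G, orderOf (g * x * g⁻¹) = orderOf x := fun x =>
    orderOf_injective (MulAut.conj g).toMonoidHom (MulAut.conj g).injective x
  rw [mem_normalizer_iff_map_conj_eq]
  conv_lhs => rw [← M.Wf_eq B ha hao he heo]
  exact (map_conj_Wf g a e).trans (M.Wf_eq B h1 ((ho a).trans hao) h2 ((ho e).trans heo))

/-- A conjugate of an involution of `S₁` and an involution of `S₂`: the second can be moved by an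
element controlled by the signalizer so as to commute with the first. -/
theorem Min.exists_pair (M : Min P S₁ S₂) {z₁ z₂ : G} (B : Base P S₁ S₂ z₁ z₂) {a b : G}
    (ha : a ∈ S₁) (hao : orderOf a = 2) (hb : b ∈ S₂) (hbo : orderOf b = 2) (g : G) :
    ∃ v : G, Commute (g * a * g⁻¹) (v * b * v⁻¹) ∧
      ∀ k : G, k⁻¹ * (g * a * g⁻¹) * k ∈ S₁ → k⁻¹ * (v * b * v⁻¹) * k ∈ S₂ →
        k⁻¹ * v * k ∈ Wf z₁ z₂ := by
  have a1 := ne_one_of_orderOf hao
  have b1 := ne_one_of_orderOf hbo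
  have b2 := sq_of_orderOf hbo
  obtain ⟨x, hx⟩ : ∃ x, x = g * a * g⁻¹ := ⟨_, rfl⟩
  rw [← hx]
  have hxo : orderOf x = 2 := by
    rw [hx]
    exact (orderOf_injective (MulAut.conj g).toMonoidHom (MulAut.conj g).injective a).trans hao
  have x2 := sq_of_orderOf hxo
  have hxp : IsPGroup 2 (zpowers x) :=
    hx ▸ isPGroup_zpowers_conj g (isPGroup_zpowers_of_mem P.2 (M.sc₁.1 ha))
  obtain ⟨u, hu⟩ : ∃ u, u = x * b := ⟨_, rfl⟩
  have hbu : b * u * b⁻¹ = u⁻¹ := by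
    rw [hu, mul_inv_rev, inv_eq_of_mul_eq_one_right b2, inv_eq_of_mul_eq_one_right x2]
    calc b * (x * b) * b = b * x * (b * b) := by group
      _ = b * x := by rw [b2, mul_one]
  have hxu : x * u * x⁻¹ = u⁻¹ := by
    rw [hu, mul_inv_rev, inv_eq_of_mul_eq_one_right b2, inv_eq_of_mul_eq_one_right x2]
    calc x * (x * b) * x = (x * x) * b * x := by group
      _ = b * x := by rw [x2, one_mul]
  have keyx : ∀ i : ℤ, u ^ i * x = x * u ^ (-i) := fun i => by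
    have h := congrArg (fun w => w ^ i) hxu
    simp only [conj_zpow, inv_zpow] at h
    rw [zpow_neg, ← h]
    calc u ^ i * x = (x * x) * u ^ i * x := by rw [x2, one_mul]
      _ = x * (x * u ^ i * x⁻¹) := by rw [inv_eq_of_mul_eq_one_right x2]; group
  have keyb : ∀ i : ℤ, u ^ i * b = b * u ^ (-i) := fun i => by
    have h := congrArg (fun w => w ^ i) hbu
    simp only [conj_zpow, inv_zpow] at h
    rw [zpow_neg, ← h]
    calc u ^ i * b = (b * b) * u ^ i * b := by rw [b2, one_mul]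
      _ = b * (b * u ^ i * b⁻¹) := by rw [inv_eq_of_mul_eq_one_right b2]; group
  have conjx : ∀ i : ℤ, u ^ i * x * (u ^ i)⁻¹ = u ^ (2 * i) * x := fun i => by
    rw [← zpow_neg, mul_assoc (u ^ i) x, ← keyx i, ← mul_assoc, ← zpow_add, two_mul]
  have conjb : ∀ i : ℤ, u ^ i * b * (u ^ i)⁻¹ = u ^ (2 * i) * b := fun i => by
    rw [← zpow_neg, mul_assoc (u ^ i) b, ← keyb i, ← mul_assoc, ← zpow_add, two_mul]
  have hxb : x = u * b := by rw [hu, mul_assoc, b2, mul_one]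
  have hun : u ^ ((orderOf u : ℕ) : ℤ) = 1 := by rw [zpow_natCast, pow_orderOf_eq_one]
  rcases Nat.even_or_odd (orderOf u) with ⟨m, hm⟩ | ⟨j, hj⟩
  swap
  · exfalso
    refine a1 (M.toPair.fused_eq_one ha (g := u ^ (j : ℤ) * g) ?_)
    have e : u ^ (j : ℤ) * g * a * (u ^ (j : ℤ) * g)⁻¹ = u ^ (j : ℤ) * x * (u ^ (j : ℤ))⁻¹ := by
      rw [hx]; group
    rw [e, conjx, hxb, ← mul_assoc, ← zpow_add_one]
    rw [hj] at hun
    push_cast at hun
    rw [hun, one_mul]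
    exact hb
  rcases Nat.even_or_odd m with ⟨i, hi⟩ | ⟨j, hj⟩
  · exfalso
    have hpos : 0 < orderOf u := orderOf_pos u
    set c := u ^ (m : ℤ) with hc
    have hcc : c⁻¹ = c := by
      rw [inv_eq_iff_mul_eq_one, hc, ← zpow_add]
      rw [hm] at hun
      push_cast at hun
      exact hun
    have hc1 : c ≠ 1 := by
      rw [hc, zpow_natCast]
      exact pow_ne_one_of_lt_orderOf (by omega) (by omega)
    have hcx : c * x = u ^ (i : ℤ) * x * (u ^ (i : ℤ))⁻¹ := by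
      rw [conjx, hc, hi]; push_cast; rw [two_mul]
    have hcb : c * b = u ^ (i : ℤ) * b * (u ^ (i : ℤ))⁻¹ := by
      rw [conjb, hc, hi]; push_cast; rw [two_mul]
    have hcxc : Commute x (c * x) := by
      show x * (c * x) = c * x * x
      conv_rhs => rw [hc, keyx, zpow_neg, ← hc, hcc]
      group
    have hcbc : Commute b (c * b) := by
      show b * (c * b) = c * b * b
      conv_rhs => rw [hc, keyb, zpow_neg, ← hc, hcc]
      group
    obtain ⟨k, hk1, hk2⟩ := exists_conj_mem₂ P hcxc hxp (hcx ▸ isPGroup_zpowers_conj _ hxp)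
    have hs1 : k⁻¹ * x * k ∈ S₁ := by
      have e : k⁻¹ * x * k = (k⁻¹ * g) * a * (k⁻¹ * g)⁻¹ := by rw [hx]; group
      rw [e] at hk1 ⊢; exact M.sc₁.2 a ha _ hk1
    have hs2 : k⁻¹ * (c * x) * k ∈ S₁ := by
      have e : k⁻¹ * (c * x) * k =
          (k⁻¹ * u ^ (i : ℤ) * g) * a * (k⁻¹ * u ^ (i : ℤ) * g)⁻¹ := by rw [hcx, hx]; group
      rw [e] at hk2 ⊢; exact M.sc₁.2 a ha _ hk2
    have hbp := isPGroup_zpowers_of_mem P.2 (M.sc₂.1 hb)
    obtain ⟨l, hl1, hl2⟩ := exists_conj_mem₂ P hcbc hbp (hcb ▸ isPGroup_zpowers_conj _ hbp)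
    have ht1 : l⁻¹ * b * l ∈ S₂ := mem_conj_of_mem M.sc₂ hb hl1
    have ht2 : l⁻¹ * (c * b) * l ∈ S₂ := by
      have e : l⁻¹ * (c * b) * l = (l⁻¹ * u ^ (i : ℤ)) * b * (l⁻¹ * u ^ (i : ℤ))⁻¹ := by
        rw [hcb]; group
      rw [e] at hl2 ⊢; exact M.sc₂.2 b hb _ hl2
    have hc1' : k⁻¹ * c * k ∈ S₁ := by
      convert mul_mem hs2 (inv_mem hs1) using 1
      group
    have hc2' : (l⁻¹ * k) * (k⁻¹ * c * k) * (l⁻¹ * k)⁻¹ ∈ S₂ := by
      convert mul_mem ht2 (inv_mem ht1) using 1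
      group
    refine hc1 ?_
    have h0 := M.toPair.fused_eq_one hc1' hc2'
    calc c = k * (k⁻¹ * c * k) * k⁻¹ := by group
      _ = 1 := by rw [h0]; group
  have hn4 : u ^ ((4 : ℤ) * j + 2) = 1 := by
    rw [hm, hj] at hun
    push_cast at hun
    rw [show (4 : ℤ) * j + 2 = 2 * j + 1 + (2 * j + 1) by ring]
    exact hun
  set jj : ℤ := (j : ℤ) with hjj
  have hvb : u ^ (2 * jj ^ 2) * b * (u ^ (2 * jj ^ 2))⁻¹ = u ^ (2 * jj + 1) * x := by
    rw [conjb, hxb, ← mul_assoc (u ^ (2 * jj + 1)) u b, ← zpow_add_one]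
    congr 1
    rw [show 2 * (2 * jj ^ 2) = (2 * jj + 1 + 1) + (4 * jj + 2) * (jj - 1) by ring, zpow_add,
      zpow_mul, hn4, one_zpow, mul_one]
  have hcinv : (u ^ (2 * jj + 1))⁻¹ = u ^ (2 * jj + 1) := by
    rw [inv_eq_iff_mul_eq_one, ← zpow_add]
    rw [show 2 * jj + 1 + (2 * jj + 1) = 4 * jj + 2 by ring]
    exact hn4
  refine ⟨u ^ (2 * jj ^ 2), ?_, fun k h1 h2 => ?_⟩
  · rw [hvb]
    show x * (u ^ (2 * jj + 1) * x) = u ^ (2 * jj + 1) * x * x
    conv_rhs => rw [keyx, zpow_neg, hcinv]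
    group
  set v := u ^ (2 * jj ^ 2) with hv
  set a₁ := k⁻¹ * x * k with ha₁
  set b₁ := k⁻¹ * (v * b * v⁻¹) * k with hb₁
  have ha₁o : orderOf a₁ = 2 := by
    rw [ha₁, show k⁻¹ * x * k = MulAut.conj k⁻¹ x by rw [MulAut.conj_apply, inv_inv]]
    exact (orderOf_injective (MulAut.conj k⁻¹).toMonoidHom (MulAut.conj k⁻¹).injective x).trans hxo
  have hb₁o : orderOf b₁ = 2 := by
    rw [hb₁, show k⁻¹ * (v * b * v⁻¹) * k = MulAut.conj (k⁻¹ * v) b by
      rw [MulAut.conj_apply]; group]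
    exact (orderOf_injective (MulAut.conj (k⁻¹ * v)).toMonoidHom
      (MulAut.conj (k⁻¹ * v)).injective b).trans hbo
  rw [← M.Wf_eq B h1 ha₁o h2 hb₁o]
  set u' := k⁻¹ * u * k with hu'
  have hpow : ∀ i : ℤ, k⁻¹ * u ^ i * k = u' ^ i := fun i => by
    rw [hu', show k⁻¹ * u * k = k⁻¹ * u * (k⁻¹)⁻¹ by rw [inv_inv], conj_zpow, inv_inv]
  have hab : a₁ * b₁ = u' ^ (2 * jj + 1) := by
    calc a₁ * b₁ = k⁻¹ * (x * (u ^ (2 * jj + 1) * x)) * k := by rw [ha₁, hb₁, hvb]; group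
      _ = k⁻¹ * u ^ (2 * jj + 1) * k := by
        rw [keyx, zpow_neg, hcinv, ← mul_assoc x, x2, one_mul]
      _ = _ := hpow _
  have hne : a₁ * b₁ ≠ 1 := fun h => ne_one_of_orderOf ha₁o
    (M.toPair.eq_one h1 ((eq_inv_of_mul_eq_one_left h) ▸ inv_mem h2))
  set C := centralizer ({a₁ * b₁} : Set G) with hC
  have hCtop : C ≠ ⊤ :=
    M.centralizer_ne_top h1 h2 (sq_of_orderOf ha₁o) (sq_of_orderOf hb₁o) hne
  have hcomm : a₁ * b₁ = b₁ * a₁ := M.toPair.comm a₁ h1 b₁ h2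
  have haC : a₁ ∈ C := by
    rw [hC, mem_centralizer_singleton_iff, mul_assoc a₁ b₁ a₁, ← hcomm]
  have hbC : b₁ ∈ C := by
    rw [hC, mem_centralizer_singleton_iff, ← mul_assoc, ← hcomm]
  have hpC : ∀ i : ℤ, u' ^ i ∈ C := fun i => by
    rw [hC, mem_centralizer_singleton_iff, hab, ← zpow_add, add_comm, zpow_add]
  obtain ⟨M₁, M₂, hn1, hn2, hM, hR1, hR2⟩ := M.toPair.exists_local M.ih hCtop
    (R := (P : Subgroup G) ⊓ C) (P.2.to_le inf_le_left) inf_le_right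
  have haM : (⟨a₁, haC⟩ : C) ∈ M₁ :=
    hR1 (mem_subgroupOf.2 (mem_inf.2 ⟨h1, M.sc₁.1 h1, haC⟩))
  have hbM : (⟨b₁, hbC⟩ : C) ∈ M₂ :=
    hR2 (mem_subgroupOf.2 (mem_inf.2 ⟨h2, M.sc₂.1 h2, hbC⟩))
  set b₀ := k⁻¹ * b * k with hb₀
  have hqb : b₀ = (u' ^ (2 * jj ^ 2))⁻¹ * b₁ * u' ^ (2 * jj ^ 2) := by
    rw [← hpow, ← hv, hb₀, hb₁]; group
  have hb₀C : b₀ ∈ C := hqb ▸ mul_mem (mul_mem (inv_mem (hpC _)) hbC) (hpC _)
  have hb₀M : (⟨b₀, hb₀C⟩ : C) ∈ M₂ := by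
    have := hn2.conj_mem _ hbM (⟨_, inv_mem (hpC (2 * jj ^ 2))⟩ : C)
    convert this using 1
    apply Subtype.ext
    push_cast
    rw [inv_inv]
    exact hqb
  have hu'2 : u' ^ (2 : ℤ) ∈ Oc (a₁ * b₁) := by
    refine ⟨⁅(⟨a₁, haC⟩ : C), ⟨b₀, hb₀C⟩⁆, hM (commutator_mem_commutator haM hb₀M), ?_⟩
    show a₁ * b₀ * a₁⁻¹ * b₀⁻¹ = u' ^ (2 : ℤ)
    rw [inv_eq_of_mul_eq_one_right (sq_of_orderOf ha₁o), zpow_two]
    have hb₀i : b₀⁻¹ = b₀ := by
      rw [hb₀, show (k⁻¹ * b * k)⁻¹ = k⁻¹ * b⁻¹ * k by group, inv_eq_of_mul_eq_one_right b2]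
    rw [hb₀i, hu', hu, ha₁, hb₀]
    group
  have ha₁u : a₁ * (u' ^ (2 * ((jj + 1) * jj ^ 2)))⁻¹ * a₁⁻¹ = u' ^ (2 * ((jj + 1) * jj ^ 2)) := by
    rw [← hpow, ha₁]
    have := keyx (2 * ((jj + 1) * jj ^ 2))
    rw [zpow_neg] at this
    calc k⁻¹ * x * k * (k⁻¹ * u ^ (2 * ((jj + 1) * jj ^ 2)) * k)⁻¹ * (k⁻¹ * x * k)⁻¹
        = k⁻¹ * (x * (u ^ (2 * ((jj + 1) * jj ^ 2)))⁻¹) * x⁻¹ * k := by group
      _ = k⁻¹ * u ^ (2 * ((jj + 1) * jj ^ 2)) * k := by rw [← this]; group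
  have hq : k⁻¹ * v * k = ⁅u' ^ (2 * ((jj + 1) * jj ^ 2)), a₁⁆ := by
    rw [show ⁅u' ^ (2 * ((jj + 1) * jj ^ 2)), a₁⁆ = u' ^ (2 * ((jj + 1) * jj ^ 2)) *
        (a₁ * (u' ^ (2 * ((jj + 1) * jj ^ 2)))⁻¹ * a₁⁻¹) by rw [commutatorElement_def]; group,
      ha₁u, ← zpow_add, hv, hpow,
      show 2 * ((jj + 1) * jj ^ 2) + 2 * ((jj + 1) * jj ^ 2) =
        2 * jj ^ 2 + (4 * jj + 2) * jj ^ 2 by ring, zpow_add, zpow_mul u' (4 * jj + 2)]
    have : u' ^ (4 * jj + 2) = 1 := by rw [← hpow, hn4, mul_one, inv_mul_cancel]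
    rw [this, one_zpow, mul_one]
  rw [hq]
  refine (le_sup_left.trans le_sup_right : ⁅Oc (a₁ * b₁), zpowers a₁⁆ ≤ Wf a₁ b₁)
    (commutator_mem_commutator ?_ (mem_zpowers a₁))
  rw [zpow_mul]
  exact zpow_mem hu'2 _

end CfsgLib.StrongClosedPair
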